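import Mathlib
import Cfsg.Agent.L5T.Defs

/-! S0511: more definitions. -/

set_option autoImplicit false

namespace Cfsg.Agent.L5T

open Subgroup Cfsg.Agent.PLocal.Amb Cfsg.Agent.Lyons

variable {G : Type*} [Group G]

/-- `B = R₁ × R₂` -/
structure DP (B R₁ R₂ : Subgroup G) : Prop where
  comm : ∀ a ∈ R₁, ∀ b ∈ R₂, Commute a b
  disj : R₁ ⊓ R₂ = ⊥
  B_eq : B = R₁ ⊔ R₂

/-- `c₂` is not isolated in `C(c₁)` -/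
def NIs (B : Subgroup G) (c₁ c₂ : G) : Prop :=
  ∃ h ∈ 𝐳[c₁], h * c₂ * h⁻¹ ∈ B ∧ h * c₂ * h⁻¹ ≠ c₂

/-- A better complement `R` to `R₂` in `B`. -/
structure La (S B R₁ R₂ : Subgroup G) (w c₁ e₁ s₁ c₂ e₂ s₂ : G) (k : ℕ) (R : Subgroup G) :
    Prop extends Su S B R₁ R₂ w c₁ e₁ s₁ c₂ e₂ s₂ k where
  nis : NIs B c₁ c₂
  dp : DP B R R₂
  rt : RT R
  c_mem : c₁ ∈ R
  cen : B ⊓ 𝐂[R] = B ⊓ 𝐂[R₁]
  sc : ∀ x ∈ R, ∀ g ∈ 𝐳[c₁] ⊓ 𝐍[⁅R₁, R₁⁆], g * x * g⁻¹ ∈ B → g * x * g⁻¹ ∈ R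
  rho : ∀ t ∈ R₂ ⊓ 𝐳[e₂], ∃ x ∈ R ⊓ 𝐂[R], ∃ y ∈ ⁅𝐂[R], 𝐂[R]⁆, t = x * y

/-- A better complement `D = B ∩ O²(C(R))` to `R` in `B`. -/
structure Lb (S B R₁ R₂ : Subgroup G) (w c₁ e₁ s₁ c₂ e₂ s₂ : G) (k : ℕ) (R D : Subgroup G) :
    Prop extends La S B R₁ R₂ w c₁ e₁ s₁ c₂ e₂ s₂ k R where
  dp' : DP B R D
  rt' : RT D
  c_mem' : c₂ ∈ D
  D_eq : D = B ⊓ 𝐎[2, 𝐂[R]]
  sup : (R ⊓ 𝐂[R]) ⊔ 𝐎[2, 𝐂[R]] = 𝐂[R]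

/-- `s` and `t` generate a four-group -/
structure Fo (s t : G) : Prop where
  l : orderOf s = 2
  r : orderOf t = 2
  ne : s ≠ t
  comm : Commute s t

/-- the four-group `⟨c, e⟩` -/
abbrev VV (c e : G) : Subgroup G := closure {c, e}

/-- the elementary abelian group `A = ⟨c₁, e₁, c₂, e₂⟩` of order 16 -/
abbrev AA (c₁ e₁ c₂ e₂ : G) : Subgroup G := closure {c₁, e₁, c₂, e₂}

/-- `C_K(c)'` is perfect with `C_K(c) / C_K(c)'` cyclic and is the normal closure of its Sylow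
2-subgroup, or `C_K(c)` normalizes that Sylow 2-subgroup. -/
def Dich' (K D : Subgroup G) (c : G) : Prop :=
  (⁅dc K c, dc K c⁆ = dc K c ∧ (∃ τ ∈ K ⊓ 𝐳[c], dc K c ⊔ zpowers τ = K ⊓ 𝐳[c]) ∧
    ∀ N ≤ dc K c, dc K c ≤ 𝐍[N] → D ⊓ dc K c ≤ N → N = dc K c) ∨ K ⊓ 𝐳[c] ≤ 𝐍[D ⊓ dc K c]

/-- A quasisimple subgroup with centre of odd order and Sylow 2-subgroup `D`. -/
structure QK (K D : Subgroup G) : Prop where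
  perf : ⁅K, K⁆ = K
  odd : Odd (Nat.card (center K))
  simple : IsSimpleGroup (K ⧸ center K)
  syl : IsSyl 2 D K
  rt : RT D

end Cfsg.Agent.L5T
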