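import Mathlib
import Cfsg.Agent.L5T.Defs

/-! S0511: transport of `RT` and `RA`. -/

set_option autoImplicit false
set_option linter.unusedSectionVars false

namespace Cfsg.Agent.L5T

open Subgroup Cfsg.Agent.PLocal.Amb Cfsg.Agent.Lyons

variable {G G' : Type*} [Group G] [Group G']

theorem RT.of_equiv {R : Subgroup G} {R' : Subgroup G'} (h : RT R) (f : R ≃* R') : RT R' := by
  rcases h with ⟨n, hn, hc, x, y, hx, hy, e⟩ | ⟨n, hn, hc, x, y, z, hx, hxy, hd, hz, e⟩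
  · refine Or.inl ⟨n, hn, by rw [← hc]; exact Nat.card_congr f.symm.toEquiv, f x, f y,
      by rw [f.orderOf_eq, hx], by rw [f.orderOf_eq, hy], ?_⟩
    rw [← map_inv, ← map_mul, ← map_mul, e, map_pow]
  · refine Or.inr ⟨n, hn, by rw [← hc]; exact Nat.card_congr f.symm.toEquiv, f x, f y, f z,
      by rw [f.orderOf_eq, hx], by rw [← map_mul, ← map_mul, hxy], ?_,
      by rw [f.orderOf_eq, hz], by rw [← map_inv, ← map_mul, ← map_mul, e]⟩
    rw [eq_bot_iff]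
    rintro _ ⟨⟨i, rfl⟩, j, hj⟩
    have h1 : y ^ j = x ^ i := f.injective (by rw [map_zpow, map_zpow]; exact hj)
    have h2 : x ^ i ∈ zpowers x ⊓ zpowers y := ⟨⟨i, rfl⟩, j, h1⟩
    rw [hd, mem_bot] at h2
    show f x ^ i ∈ (⊥ : Subgroup R')
    rw [← map_zpow, h2, map_one]
    exact one_mem _

/-- `R ≃* R.map f` when `f` is injective on `R` -/
theorem exists_equiv_map {R : Subgroup G} (f : G →* G') (hf : R ⊓ f.ker = ⊥) :
    ∃ φ : R ≃* R.map f, ∀ x : R, (φ x : G') = f x := by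
  refine ⟨MulEquiv.ofBijective (f.subgroupMap R) ⟨?_, f.subgroupMap_surjective R⟩, fun x => rfl⟩
  rw [injective_iff_map_eq_one]
  intro x hx
  have h1 : (x : G) ∈ R ⊓ f.ker := ⟨x.2, congrArg Subtype.val hx⟩
  rw [hf, mem_bot] at h1
  exact Subtype.ext h1

theorem RT.map {R : Subgroup G} (h : RT R) (f : G →* G') (hf : R ⊓ f.ker = ⊥) : RT (R.map f) := by
  obtain ⟨φ, -⟩ := exists_equiv_map f hf
  exact h.of_equiv φ

/-- `f` is injective on `R`: transport every field (for `a b ∈ R`: `f a = f b ↔ a = b`,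
`Commute (f a) (f b) ↔ Commute a b`, `f a ∈ 𝐂[R.map f] ↔ a ∈ 𝐂[R]`, `map_commutator`). -/
theorem RA.map {R : Subgroup G} {c e s : G} {k : ℕ} (h : RA R c e s k) (f : G →* G')
    (hf : R ⊓ f.ker = ⊥) : RA (R.map f) (f c) (f e) (f s) k := by
  obtain ⟨φ, hφ⟩ := exists_equiv_map f hf
  have one : ∀ {a}, a ∈ R → f a = 1 → a = 1 := fun {a} ha h1 => by
    have h2 : a ∈ R ⊓ f.ker := ⟨ha, h1⟩
    rwa [hf, mem_bot] at h2
  have inj : ∀ {a b}, a ∈ R → b ∈ R → f a = f b → a = b := fun {a b} ha hb h1 => by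
    rw [← mul_inv_eq_one]
    exact one (mul_mem ha (inv_mem hb)) (by rw [map_mul, map_inv, h1, mul_inv_cancel])
  have com : ∀ {a b}, a ∈ R → b ∈ R → Commute (f a) (f b) → Commute a b := fun {a b} ha hb h1 =>
    inj (mul_mem ha hb) (mul_mem hb ha) (by rw [map_mul, map_mul]; exact h1.eq)
  have cen : ∀ {a}, a ∈ R → (f a ∈ 𝐂[R.map f] ↔ a ∈ 𝐂[R]) := fun {a} ha => by
    constructor
    · intro h1
      exact mem_centralizer_iff.2 fun b hb =>
        (com hb ha (mem_centralizer_iff.1 h1 _ ⟨b, hb, rfl⟩)).eq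
    · intro h1
      refine mem_centralizer_iff.2 ?_
      rintro _ ⟨b, hb, rfl⟩
      rw [← map_mul, ← map_mul, mem_centralizer_iff.1 h1 b hb]
  have sq : ∀ {a}, a ∈ R → f a * f a = 1 → a * a = 1 := fun {a} ha h1 =>
    one (mul_mem ha ha) (by rw [map_mul, h1])
  have hD : ⁅R, R⁆ ≤ R := commutator_le.2 fun a ha b hb =>
    mul_mem (mul_mem (mul_mem ha hb) (inv_mem ha)) (inv_mem hb)
  have hT : (R ⊓ 𝐳[e]).map f = R.map f ⊓ 𝐳[f e] := by
    apply le_antisymm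
    · rintro _ ⟨a, ⟨ha, hc⟩, rfl⟩
      refine ⟨⟨a, ha, rfl⟩, mem_centralizer_singleton_iff.2 ?_⟩
      rw [← map_mul, ← map_mul, mem_centralizer_singleton_iff.1 hc]
    · rintro _ ⟨⟨a, ha, rfl⟩, hc⟩
      exact ⟨a, ⟨ha, mem_centralizer_singleton_iff.2
        (com ha h.e_mem (mem_centralizer_singleton_iff.1 hc)).eq⟩, rfl⟩
  refine
    { ty := h.ty.of_equiv φ
      two := h.two.map f
      c_mem := ⟨c, h.c_mem, rfl⟩
      e_mem := ⟨e, h.e_mem, rfl⟩
      s_mem := ⟨s, h.s_mem, rfl⟩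
      cc := by rw [← map_mul, h.cc, map_one]
      ee := by rw [← map_mul, h.ee, map_one]
      ss := by rw [← map_mul, h.ss, map_one]
      c_ne := fun h1 => h.c_ne (one h.c_mem h1)
      c_cen := (cen h.c_mem).2 h.c_cen
      ses := by rw [← map_inv, ← map_mul, ← map_mul, h.ses, map_mul]
      cen_inv := ?_
      ca := ?_
      rank := ?_
      flip := ?_
      der_i := ?_
      der_inv := ?_
      inv := ?_
      cardT := ?_
      expT := ?_
      expD := ?_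
      sq := ?_
      sup := ?_
      aut := ?_ }
  · rintro _ ⟨x, hx, rfl⟩ hc hxx
    rcases h.cen_inv x hx ((cen hx).1 hc) (sq hx hxx) with rfl | rfl
    · exact Or.inl (map_one f)
    · exact Or.inr rfl
  · rintro _ ⟨x, hx, rfl⟩ _ ⟨a, ha, rfl⟩ _ ⟨b, hb, rfl⟩ h1 h2 h3
    exact (cen hx).2 (h.ca x hx a ha b hb (com hx ha h1) (com hx hb h2) fun h4 => h3 (h4.map f))
  · rintro _ ⟨a, ha, rfl⟩ _ ⟨b, hb, rfl⟩ h1 h2 h3
    rcases h.rank a ha b hb (sq ha h1) (sq hb h2) (com ha hb h3) with h4 | h4 | h4 | h4 | h4 | h4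
    · exact Or.inl (by rw [h4, map_one])
    · exact Or.inr (Or.inl (by rw [h4, map_one]))
    · exact Or.inr (Or.inr (Or.inl (by rw [h4])))
    · exact Or.inr (Or.inr (Or.inr (Or.inl (by rw [h4]))))
    · exact Or.inr (Or.inr (Or.inr (Or.inr (Or.inl (by rw [h4])))))
    · exact Or.inr (Or.inr (Or.inr (Or.inr (Or.inr (by rw [← map_mul, h4])))))
  · rintro _ ⟨y, hy, rfl⟩ h1 h2
    rw [← map_mul] at h2
    obtain ⟨r, hr, e1⟩ := h.flip y hy (fun h3 => h1 ((cen hy).2 h3)) ((cen (mul_mem hy hy)).1 h2)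
    exact ⟨f r, ⟨r, hr, rfl⟩, by rw [← map_inv, ← map_mul, ← map_mul, e1, map_mul]⟩
  · obtain ⟨i, hi, e1⟩ := h.der_i
    exact ⟨f i, by rw [← map_commutator]; exact ⟨i, hi, rfl⟩, by rw [← map_mul, e1]⟩
  · rw [← map_commutator]
    rintro _ ⟨x, hx, rfl⟩ hxx
    rcases h.der_inv x hx (sq (hD hx) hxx) with rfl | rfl
    · exact Or.inl (map_one f)
    · exact Or.inr rfl
  · rintro _ ⟨r, hr, rfl⟩ h1 h2
    rcases h.inv r hr (sq hr h1) (fun h3 => h2 ((cen hr).2 h3)) with ⟨g, hg, e1⟩ | ⟨⟨y, hy, h3, e1⟩, h4⟩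
    · exact Or.inl ⟨f g, ⟨g, hg, rfl⟩, by rw [← map_inv, ← map_mul, ← map_mul, e1]⟩
    · refine Or.inr ⟨⟨f y, ⟨y, hy, rfl⟩, (cen hy).2 h3, by rw [← map_mul, e1]⟩, ?_⟩
      rintro _ ⟨x, hx, rfl⟩ h5
      rw [← map_mul]
      exact (cen (mul_mem hx hx)).2 (h4 x hx (com hr hx h5))
  · obtain ⟨ψ, -⟩ := exists_equiv_map (R := R ⊓ 𝐳[e]) f (by
      rw [eq_bot_iff, ← hf]; exact inf_le_inf_right _ inf_le_left)
    rw [← hT, ← h.cardT]
    exact Nat.card_congr ψ.symm.toEquiv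
  · rintro _ ⟨x, hx, rfl⟩ h1
    rw [← map_pow, h.expT x hx (com h.e_mem hx h1), map_one]
  · rintro _ ⟨x, hx, rfl⟩
    rw [← map_commutator, ← map_pow]
    exact ⟨_, h.expD x hx, rfl⟩
  · rcases h.sq with h1 | h1
    · left
      rintro _ ⟨x, hx, rfl⟩ h2
      rw [← map_mul] at h2 ⊢
      exact (cen (mul_mem hx hx)).2 (h1 x hx (sq (mul_mem hx hx) h2))
    · right
      rintro _ ⟨x, hx, rfl⟩
      rcases h1 x hx with h2 | h2
      · exact Or.inl (h2.map f)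
      · exact Or.inr (by rw [← map_mul]; exact h2.map f)
  · rintro X hX h1 ⟨a, ha, b, hb, hab⟩ he
    obtain ⟨a, ha', rfl⟩ := hX ha
    obtain ⟨b, hb', rfl⟩ := hX hb
    have h2 : (X.comap f ⊓ R).map f = X := by
      apply le_antisymm
      · rintro _ ⟨x, hx, rfl⟩
        exact hx.1
      · intro x hx
        obtain ⟨x, hx', rfl⟩ := hX hx
        exact ⟨x, ⟨hx, hx'⟩, rfl⟩
    have h3 := h.sup (X.comap f ⊓ R) inf_le_right
      (fun x hx => ⟨h1 (by rw [← map_commutator]; exact ⟨x, hx, rfl⟩), hD hx⟩)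
      ⟨a, ⟨ha, ha'⟩, b, ⟨hb, hb'⟩, fun h4 => hab (h4.map f)⟩ fun h4 => he h4.1
    rw [← hT, ← h2, ← Subgroup.map_sup, h3]
  · intro ψ ho
    have h1 := h.aut (MulAut.congr φ.symm ψ) (by rw [MulEquiv.orderOf_eq]; exact ho)
    exact (map_eq_one_iff _ (MulAut.congr φ.symm).injective).1 h1

theorem RA.cj {R : Subgroup G} {c e s : G} {k : ℕ} (h : RA R c e s k) (g : G) :
    RA cj(g, R) (g * c * g⁻¹) (g * e * g⁻¹) (g * s * g⁻¹) k := by
  exact h.map (MulAut.conj g).toMonoidHom (by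
    rw [(MonoidHom.ker_eq_bot_iff _).2 (MulAut.conj g).injective, inf_bot_eq])

theorem RA.of_map {R : Subgroup G} {c e s : G} {k : ℕ} (f : G →* G') (hf : Function.Injective f)
    (h : RA (R.map f) (f c) (f e) (f s) k) : RA R c e s k := by
  have hk : ∀ X : Subgroup G, X ⊓ f.ker = ⊥ := fun X => by
    rw [(MonoidHom.ker_eq_bot_iff _).2 hf, inf_bot_eq]
  obtain ⟨φ, hφ⟩ := exists_equiv_map f (hk R)
  have mem : ∀ {X : Subgroup G} {a}, f a ∈ X.map f ↔ a ∈ X := fun {X a} => mem_map_iff_mem hf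
  have one : ∀ {a}, f a = 1 ↔ a = 1 := fun {a} => map_eq_one_iff f hf
  have com : ∀ {a b}, Commute (f a) (f b) ↔ Commute a b := fun {a b} =>
    ⟨fun h1 => hf (by rw [map_mul, map_mul]; exact h1.eq), fun h1 => h1.map f⟩
  have cen : ∀ {a}, f a ∈ 𝐂[R.map f] ↔ a ∈ 𝐂[R] := fun {a} => by
    constructor
    · intro h1
      exact mem_centralizer_iff.2 fun b hb =>
        (com.1 (mem_centralizer_iff.1 h1 _ ⟨b, hb, rfl⟩)).eq
    · intro h1
      refine mem_centralizer_iff.2 ?_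
      rintro _ ⟨b, hb, rfl⟩
      rw [← map_mul, ← map_mul, mem_centralizer_iff.1 h1 b hb]
  have sq : ∀ {a}, f a * f a = 1 ↔ a * a = 1 := fun {a} => by rw [← map_mul, one]
  have hT : (R ⊓ 𝐳[e]).map f = R.map f ⊓ 𝐳[f e] := by
    apply le_antisymm
    · rintro _ ⟨a, ⟨ha, hc⟩, rfl⟩
      refine ⟨⟨a, ha, rfl⟩, mem_centralizer_singleton_iff.2 ?_⟩
      rw [← map_mul, ← map_mul, mem_centralizer_singleton_iff.1 hc]
    · rintro _ ⟨⟨a, ha, rfl⟩, hc⟩
      exact ⟨a, ⟨ha, mem_centralizer_singleton_iff.2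
        (com.1 (mem_centralizer_singleton_iff.1 hc)).eq⟩, rfl⟩
  refine
    { ty := h.ty.of_equiv φ.symm
      two := h.two.of_equiv φ.symm
      c_mem := mem.1 h.c_mem
      e_mem := mem.1 h.e_mem
      s_mem := mem.1 h.s_mem
      cc := sq.1 h.cc
      ee := sq.1 h.ee
      ss := sq.1 h.ss
      c_ne := fun h1 => h.c_ne (one.2 h1)
      c_cen := cen.1 h.c_cen
      ses := hf (by rw [map_mul, map_mul, map_inv, h.ses, map_mul])
      cen_inv := ?_
      ca := ?_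
      rank := ?_
      flip := ?_
      der_i := ?_
      der_inv := ?_
      inv := ?_
      cardT := ?_
      expT := ?_
      expD := ?_
      sq := ?_
      sup := ?_
      aut := ?_ }
  · intro x hx hc hxx
    exact (h.cen_inv _ (mem.2 hx) (cen.2 hc) (sq.2 hxx)).imp one.1 fun h1 => hf h1
  · intro x hx a ha b hb h1 h2 h3
    exact cen.1 (h.ca _ (mem.2 hx) _ (mem.2 ha) _ (mem.2 hb) (com.2 h1) (com.2 h2)
      fun h4 => h3 (com.1 h4))
  · intro a ha b hb h1 h2 h3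
    have := h.rank _ (mem.2 ha) _ (mem.2 hb) (sq.2 h1) (sq.2 h2) (com.2 h3)
    rwa [← map_mul, one, one, hf.eq_iff, hf.eq_iff, hf.eq_iff, hf.eq_iff] at this
  · intro y hy h1 h2
    obtain ⟨_, ⟨r, hr, rfl⟩, e1⟩ := h.flip _ (mem.2 hy) (fun h3 => h1 (cen.1 h3))
      (by rw [← map_mul]; exact cen.2 h2)
    exact ⟨r, hr, hf (by rw [map_mul, map_mul, map_inv, e1, map_mul])⟩
  · obtain ⟨i, hi, e1⟩ := h.der_i
    rw [← map_commutator] at hi
    obtain ⟨i, hi, rfl⟩ := hi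
    exact ⟨i, hi, hf (by rw [map_mul, e1])⟩
  · intro x hx hxx
    exact (h.der_inv (f x) (by rw [← map_commutator]; exact mem.2 hx) (sq.2 hxx)).imp one.1
      fun h1 => hf h1
  · intro r hr h1 h2
    rcases h.inv _ (mem.2 hr) (sq.2 h1) (fun h3 => h2 (cen.1 h3)) with
      ⟨_, ⟨g, hg, rfl⟩, e1⟩ | ⟨⟨_, ⟨y, hy, rfl⟩, h3, e1⟩, h4⟩
    · exact Or.inl ⟨g, hg, hf (by rw [map_mul, map_mul, map_inv, e1])⟩
    · refine Or.inr ⟨⟨y, hy, cen.1 h3, hf (by rw [map_mul, e1])⟩, fun x hx h5 => cen.1 ?_⟩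
      rw [map_mul]
      exact h4 _ (mem.2 hx) (com.2 h5)
  · obtain ⟨ψ, -⟩ := exists_equiv_map f (hk (R ⊓ 𝐳[e]))
    rw [← h.cardT, ← hT]
    exact Nat.card_congr ψ.toEquiv
  · intro x hx h1
    rw [← one, map_pow]
    exact h.expT _ (mem.2 hx) (com.2 h1)
  · intro x hx
    rw [← mem, map_commutator, map_pow]
    exact h.expD _ (mem.2 hx)
  · rcases h.sq with h1 | h1
    · left
      intro x hx h2
      rw [← cen, map_mul]
      exact h1 _ (mem.2 hx) (by rw [← map_mul, ← map_mul, h2, map_one])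
    · right
      intro x hx
      exact (h1 _ (mem.2 hx)).imp com.1 fun h2 => com.1 (by rw [map_mul]; exact h2)
  · rintro X hX h1 ⟨a, ha, b, hb, hab⟩ he
    have h3 := h.sup (X.map f) (map_mono hX) (by rw [← map_commutator]; exact map_mono h1)
      ⟨_, mem.2 ha, _, mem.2 hb, fun h4 => hab (com.1 h4)⟩ fun h4 => he (mem.1 h4)
    rw [← hT, ← Subgroup.map_sup] at h3
    exact map_injective hf h3
  · intro ψ ho
    have h1 := h.aut (MulAut.congr φ ψ) (by rw [MulEquiv.orderOf_eq]; exact ho)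
    exact (map_eq_one_iff _ (MulAut.congr φ).injective).1 h1

/-- the same for `R.subgroupOf H` (`RA.map` backwards; e.g. prove a `comap` version for injective
`f` with `R ≤ f.range`) -/
theorem RA.subgroupOf {R H : Subgroup G} {c e s : H} {k : ℕ} (h : RA R (c : G) e s k)
    (hR : R ≤ H) : RA (R.subgroupOf H) c e s k := by
  refine RA.of_map H.subtype H.subtype_injective ?_
  rw [map_subgroupOf_eq_of_le hR]
  exact h

end Cfsg.Agent.L5T
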