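import Mathlib
import Cfsg.Agent.L5T.Defs
import Cfsg.Agent.Inv.QD
import Cfsg.Agent.S3116

/-! S0511: `RA` for semidihedral groups. -/

set_option autoImplicit false
set_option linter.unusedSectionVars false

namespace Cfsg.Agent.L5T

open Subgroup Cfsg.Agent.PLocal.Amb Cfsg.Agent.Lyons

variable {G : Type*} [Group G] [Finite G]

theorem ra_aut_of_two {X : Type*} [Group X] (h : IsPGroup 2 X) (φ : X) (ho : Odd (orderOf φ)) :
    φ = 1 := by
  obtain ⟨n, hn⟩ := h φ
  have h1 : orderOf φ ∣ 2 ^ n := orderOf_dvd_of_pow_eq_one hn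
  have h2 : (orderOf φ).Coprime (2 ^ n) := (Nat.coprime_two_right.2 ho).pow_right n
  exact orderOf_eq_one_iff.1 (Nat.Coprime.eq_one_of_dvd h2 h1)

/-- `R = ⟨a, r⟩`, `|a| = 2^n` (`n ≥ 3`), `r a r⁻¹ = a^(2^(n-1)-1)`; every element is `a^j` or
`a^j r`. Take `c = a^(2^(n-1))`, `i = a^(2^(n-2))`, `e = r`, `s = i r`. `R' = ⟨a²⟩`, `Z(R) = ⟨c⟩`,
`(a^j r)² = c^j`, `C_R(a^j r) = ⟨a^j r, c⟩`, `C_R(a^j) = ⟨a⟩` unless `a^j ∈ ⟨c⟩`; `flip`: conjugate
by `r` resp. `i`; `sq`: first alternative; `aut`: S3116 (or: `φ` fixes `⟨a⟩ = C(R')`, whose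
automorphism group is a 2-group, and acts trivially on the quotient). See also S1189-S1194. -/
theorem exists_ra_sd {R : Subgroup G} (h : IsQuasiDihedral R) : ∃ c e s, RA R c e s 1 := by
  obtain ⟨k, ⟨c⟩⟩ := Inv.exists_QDC h
  have hh := Inv.QDC.h_mul_two (k := k)
  have h0 := Inv.QDC.h_ne_zero (k := k)
  have two : IsPGroup 2 R := IsPGroup.of_card c.card
  have hcen : ∀ m : ZMod (2 ^ (k + 3)), 2 * m = 0 → c.r m ∈ 𝐂[R] := by
    intro m hm
    rcases (Inv.Z2.two_mul_eq_zero_iff (k := k + 2) m).1 hm with rfl | rfl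
    · rw [c.r_zero]; exact one_mem _
    · exact mem_centralizer_iff.2 fun x hx => (c.commute_z hx).eq
  have hcen' : ∀ x ∈ R, x ∈ 𝐂[R] → x = 1 ∨ x = c.r (2 ^ (k + 2)) := fun x hx hc =>
    c.mem_zpowers_z.1 (c.eq_of_central hx fun y hy => mem_centralizer_iff.1 hc y hy)
  have hcs : ∀ a : ZMod (2 ^ (k + 3)), ∀ g ∈ R, Commute (c.s a) g →
      (∃ i, g = c.r (i * 2 ^ (k + 2))) ∨ ∃ i, g = c.s (a + i * 2 ^ (k + 2)) := fun a g hg hc =>
    (c.mem_closure_r_s (Inv.QDC.he_h a)).1 (c.mem_closure_of_commute_s hg hc.eq)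
  have hinv : ∀ x ∈ R, x * x = 1 → x = 1 ∨ x = c.r (2 ^ (k + 2)) ∨ ∃ b, x = c.s (2 * b) := by
    intro x hx hxx
    by_cases h1 : x = 1
    · exact Or.inl h1
    · exact Or.inr (c.cases_of_orderOf_two hx (orderOf_eq_prime (by rw [pow_two, hxx]) h1))
  have hT : R ⊓ 𝐳[c.s 0] = closure {c.r (2 ^ (k + 2)), c.s 0} := by
    apply le_antisymm
    · rintro g ⟨hg, hc⟩
      exact c.mem_closure_of_commute_s hg (mem_centralizer_singleton_iff.1 hc).symm
    · rw [closure_le]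
      rintro g (rfl | rfl)
      · exact ⟨c.r_mem _, mem_centralizer_singleton_iff.2 (c.commute_z (c.s_mem 0)).eq.symm⟩
      · exact ⟨c.s_mem _, mem_centralizer_singleton_iff.2 rfl⟩
  refine ⟨c.r (2 ^ (k + 2)), c.s 0, c.s (2 * 2 ^ k),
    { ty := Or.inl h
      two := two
      c_mem := c.r_mem _
      e_mem := c.s_mem _
      s_mem := c.s_mem _
      cc := c.z_sq
      ee := by simpa using c.s_even_sq 0
      ss := c.s_even_sq _
      c_ne := by rw [Ne, c.r_eq_one]; exact h0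
      c_cen := hcen _ (by linear_combination hh)
      ses := ?_
      cen_inv := fun x hx hc _ => hcen' x hx hc
      ca := ?_
      rank := ?_
      flip := ?_
      der_i := ?_
      der_inv := ?_
      inv := ?_
      cardT := ?_
      expT := ?_
      expD := ?_
      sq := Or.inl ?_
      sup := ?_
      aut := fun φ ho => ra_aut_of_two (S3116.result two (Or.inr h)) φ ho }⟩
  · rw [c.s_conj_s, c.s_mul_r, c.s_inj]
    linear_combination (1 - 2 ^ k - 2 ^ (k + 1)) * hh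
  · intro x hx a ha b hb h1 h2 h3
    rcases c.cases hx with ⟨i, rfl⟩ | ⟨i, rfl⟩
    · have key : ∀ j, Commute (c.r i) (c.s j) → c.r i ∈ 𝐂[R] := by
        intro j hj
        have h4 := hj.eq
        rw [c.r_mul_s, c.s_mul_r, c.s_inj] at h4
        refine mem_centralizer_iff.2 fun y hy => ?_
        rcases c.cases hy with ⟨l, rfl⟩ | ⟨l, rfl⟩
        · rw [c.r_mul_r, c.r_mul_r, add_comm l i]
        · rw [c.r_mul_s, c.s_mul_r, c.s_inj]
          linear_combination -h4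
      rcases c.cases ha with ⟨j, rfl⟩ | ⟨j, rfl⟩
      · rcases c.cases hb with ⟨l, rfl⟩ | ⟨l, rfl⟩
        · exact absurd (show c.r j * c.r l = c.r l * c.r j by
            rw [c.r_mul_r, c.r_mul_r, add_comm j l]) h3
        · exact key l h2
      · exact key j h1
    · exfalso
      apply h3
      rcases hcs i a ha h1 with ⟨j, rfl⟩ | ⟨j, rfl⟩
      · exact (mem_centralizer_iff.1 (hcen _ (by linear_combination j * hh)) b hb).symm
      · rcases hcs i b hb h2 with ⟨l, rfl⟩ | ⟨l, rfl⟩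
        · exact mem_centralizer_iff.1 (hcen _ (by linear_combination l * hh)) _ ha
        · show _ * _ = _ * _
          rw [c.s_mul_s, c.s_mul_s, c.r_inj]
          linear_combination (j - l + (l - j) * 2 ^ (k + 1)) * hh
  · intro a ha b hb haa hbb hab
    rcases hinv a ha haa with h1 | h1 | ⟨x, rfl⟩
    · exact Or.inl h1
    · exact Or.inr (Or.inr (Or.inr (Or.inl h1)))
    rcases hinv b hb hbb with h1 | h1 | ⟨y, rfl⟩
    · exact Or.inr (Or.inl h1)
    · exact Or.inr (Or.inr (Or.inr (Or.inr (Or.inl h1))))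
    rcases hcs _ _ hb hab with ⟨j, hj⟩ | ⟨j, hj⟩
    · exact absurd hj (c.s_ne_r _ _)
    rcases (Inv.Z2.two_mul_eq_zero_iff (k := k + 2) (j * 2 ^ (k + 2))).1
      (by linear_combination j * hh) with h1 | h1
    · exact Or.inr (Or.inr (Or.inl (by rw [hj, h1, add_zero])))
    · refine Or.inr (Or.inr (Or.inr (Or.inr (Or.inr ?_))))
      rw [hj, h1, c.s_mul_s, c.r_inj]
      linear_combination (x + 2 ^ (k + 1) - 1) * hh
  · intro y hy h1 h2
    rcases c.cases hy with ⟨i, rfl⟩ | ⟨i, rfl⟩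
    · refine ⟨c.s 0, c.s_mem _, ?_⟩
      rw [c.s_conj_r, c.r_mul_r, c.r_inj]
      rw [c.r_mul_r] at h2
      rcases hcen' _ (c.r_mem _) h2 with h3 | h3
      · rw [c.r_eq_one] at h3
        exact absurd (hcen i (by linear_combination h3)) h1
      · rw [c.r_inj] at h3
        rcases (Inv.Z2.two_mul_eq_zero_iff (k := k + 2) (i - 2 ^ (k + 1))).1
          (by linear_combination h3) with h4 | h4
        · linear_combination (2 ^ (k + 2) - 2) * h4 + (2 ^ k - 1) * hh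
        · linear_combination (2 ^ (k + 2) - 2) * h4 + (2 ^ k + 2 ^ (k + 1) - 2) * hh
    · refine ⟨c.r (2 ^ (k + 1)), c.r_mem _, ?_⟩
      rw [c.r_conj_s, c.s_mul_r, c.s_inj]
      linear_combination (1 - 2 ^ k - 2 ^ (k + 1)) * hh
  · refine ⟨c.r (2 ^ (k + 1)), ?_, ?_⟩
    · rw [c.commutator_eq, c.r_mem_zpowers_r]
      exact ⟨2 ^ k, by ring⟩
    · rw [c.r_mul_r, c.r_inj]; ring
  · intro x hx hxx
    rw [c.commutator_eq, c.mem_zpowers_r] at hx
    obtain ⟨i, rfl⟩ := hx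
    rw [c.r_mul_r, c.r_eq_one] at hxx
    exact hcen' _ (c.r_mem _) (hcen _ (by linear_combination hxx))
  · intro r hr hrr hn
    rcases hinv r hr hrr with rfl | rfl | ⟨b, rfl⟩
    · exact absurd (one_mem _) hn
    · exact absurd (hcen _ (by linear_combination hh)) hn
    · obtain ⟨j, hj⟩ := c.exists_conj_s (2 * b) (-b)
      exact Or.inl ⟨_, c.r_mem j, by rw [hj, c.s_inj]; ring⟩
  · rw [hT, c.card_closure_r_s (Inv.QDC.he_h 0), (Inv.Z2.addOrderOf_eq_two_iff _).2 rfl]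
    norm_num
  · intro x hx hc
    rw [pow_one, pow_two]
    rcases hcs 0 x hx hc with ⟨j, rfl⟩ | ⟨j, rfl⟩
    · rw [c.r_mul_r, c.r_eq_one]; linear_combination j * hh
    · rw [c.s_mul_s, c.r_eq_one]; linear_combination (j * 2 ^ (k + 1)) * hh
  · intro x hx
    rw [pow_one, pow_two, c.commutator_eq]
    rcases c.cases hx with ⟨i, rfl⟩ | ⟨i, rfl⟩
    · rw [c.r_mul_r, c.r_mem_zpowers_r]; exact ⟨i, by ring⟩
    · rw [c.s_mul_s, c.r_mem_zpowers_r]; exact ⟨2 ^ (k + 1) * i, by ring⟩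
  · intro x hx h4
    rcases c.cases hx with ⟨i, rfl⟩ | ⟨i, rfl⟩
    · rw [c.r_mul_r] at h4 ⊢
      rw [c.r_mul_r, c.r_eq_one] at h4
      exact hcen _ (by linear_combination h4)
    · rw [c.s_mul_s]
      exact hcen _ (by linear_combination i * hh)
  · rintro X hX hD ⟨a, ha, b, hb, hab⟩ he
    have hr2 : ∀ i, c.r (2 * i) ∈ X := fun i => hD (by
      rw [c.commutator_eq, c.r_mem_zpowers_r]; exact ⟨i, by ring⟩)
    obtain ⟨j, hj⟩ : ∃ j, c.s j ∈ X := by
      rcases c.cases (hX ha) with ⟨i, rfl⟩ | ⟨i, rfl⟩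
      · rcases c.cases (hX hb) with ⟨l, rfl⟩ | ⟨l, rfl⟩
        · exact absurd (show c.r i * c.r l = c.r l * c.r i by
            rw [c.r_mul_r, c.r_mul_r, add_comm i l]) hab
        · exact ⟨l, hb⟩
      · exact ⟨i, ha⟩
    refine le_antisymm (sup_le hX inf_le_left) ?_
    have he' : c.s 0 ∈ X ⊔ R ⊓ 𝐳[c.s 0] :=
      mem_sup_right ⟨c.s_mem _, mem_centralizer_singleton_iff.2 rfl⟩
    rcases Inv.Z2.even_or_odd j with ⟨d, rfl⟩ | ⟨d, rfl⟩
    · exfalso
      apply he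
      have := mul_mem (hr2 (-d)) hj
      rwa [c.r_mul_s, show 2 * -d + 2 * d = 0 by ring] at this
    · have h1 : c.s 1 ∈ X := by
        have := mul_mem (hr2 (-d)) hj
        rwa [c.r_mul_s, show 2 * -d + (2 * d + 1) = 1 by ring] at this
      have h2 : c.r 1 ∈ X ⊔ R ⊓ 𝐳[c.s 0] := by
        have := mul_mem (mem_sup_left h1) (inv_mem he')
        rwa [c.s_mul_s_inv, sub_zero] at this
      refine c.eq_closure.le.trans ((closure_le _).2 ?_)
      rintro g (rfl | rfl)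
      · exact h2
      · exact he'

end Cfsg.Agent.L5T
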