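import Mathlib
import Cfsg.Agent.L5T.Defs
import Cfsg.Agent.L5T.RAsd
import Cfsg.Agent.Inv.WreathAut

/-! S0511: `RA` for wreathed groups. -/

set_option autoImplicit false
set_option linter.unusedSectionVars false

namespace Cfsg.Agent.L5T

open Subgroup Cfsg.Agent.PLocal.Amb Cfsg.Agent.Lyons

variable {G : Type*} [Group G] [Finite G]

/-- `R = (⟨x⟩ × ⟨y⟩)⟨s⟩`, `|x| = 2^k` (`k ≥ 2`), `s x s⁻¹ = y`; `T = ⟨x, y⟩ = C_R(e)` has index 2.
Take `e = x^(2^(k-1))`, `c = (x y)^(2^(k-1))`. `Z(R) = ⟨x y⟩`, `R' = ⟨x y⁻¹⟩`,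
`i = (x y⁻¹)^(2^(k-2))`; for `u ∉ T`: `C_R(u) = ⟨u⟩ Z(R)`, `u² ∈ Z(R)`; `flip`: conjugate by `s`
(`y ∈ T`) resp. `e`; `sq`: second alternative; `aut`: `φ` fixes `T` (the unique abelian subgroup of
index 2, or `C(R')`), fixes `c`, so is trivial on `Ω₁(T) = ⟨c, e⟩`, so on `T` (S0056), so on `R`.
See also S1195-S1202. -/
theorem exists_ra_w {R : Subgroup G} (h : IsWreathed R) : ∃ c e s k, RA R c e s k := by
  obtain ⟨k, ⟨c⟩⟩ := Inv.exists_WrC_of_isWreathed h
  have hh := Inv.WrC.h_mul_two (k := k)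
  have h0 := Inv.WrC.h_ne_zero (k := k)
  have hN : ((2 ^ (k + 2) : ℕ) : ZMod (2 ^ (k + 2))) = 0 := ZMod.natCast_self _
  have h2z := Inv.Z2.two_mul_eq_zero_iff (k := k + 1)
  have hcen : ∀ m, c.u m m ∈ 𝐂[R] := fun m =>
    mem_centralizer_iff.2 fun x hx => (c.commute_diag hx m).eq
  have hcen' : ∀ x ∈ R, x ∈ 𝐂[R] → ∃ i, x = c.u i i := fun x hx hc =>
    c.eq_of_central Inv.WrC.N_ne_one hx fun y hy => mem_centralizer_iff.1 hc y hy
  have huu : ∀ i j l m, Commute (c.u i j) (c.u l m) := fun i j l m => by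
    show _ * _ = _ * _
    rw [c.u_mul_u, c.u_mul_u, add_comm i l, add_comm j m]
  have hvu : ∀ i j l m, Commute (c.v i j) (c.u l m) → l = m := fun i j l m hc => by
    have := hc.eq
    rw [c.v_mul_u, c.u_mul_v, c.v_inj] at this
    linear_combination -this.1
  have hU : ∀ x ∈ R, Commute (c.u (2 ^ (k + 1)) 0) x → ∃ i j, x = c.u i j := by
    intro x hx hc
    rcases c.cases hx with h1 | ⟨i, j, rfl⟩
    · exact h1
    · exact absurd (hvu _ _ _ _ hc.symm) h0
  have hT : R ⊓ 𝐳[c.u (2 ^ (k + 1)) 0] = c.U := by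
    apply le_antisymm
    · rintro g ⟨hg, hc⟩
      exact c.mem_U.2 (hU g hg (mem_centralizer_singleton_iff.1 hc).symm)
    · intro g hg
      obtain ⟨i, j, rfl⟩ := c.mem_U.1 hg
      exact ⟨c.u_mem _ _, mem_centralizer_singleton_iff.2 (huu _ _ _ _).eq⟩
  have hv : ∀ X ≤ R, ∀ a ∈ X, ∀ b ∈ X, ¬ Commute a b → ∃ i j, c.v i j ∈ X := by
    intro X hX a ha b hb hab
    rcases c.cases (hX ha) with ⟨i, j, rfl⟩ | ⟨i, j, rfl⟩
    · rcases c.cases (hX hb) with ⟨l, m, rfl⟩ | ⟨l, m, rfl⟩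
      · exact absurd (huu _ _ _ _) hab
      · exact ⟨l, m, hb⟩
    · exact ⟨i, j, ha⟩
  have hA : IsPGroup 2 (MulAut R) := by
    by_contra hA
    rcases c.eq_U_or_eq_V le_rfl inf_le_left hA with h1 | ⟨a, h1⟩
    · exact c.v_notMem_U 0 0 (h1.le (c.v_mem 0 0))
    · exact c.u_q_notMem_V a (h1.le (c.u_mem _ _))
  refine ⟨c.u (2 ^ (k + 1)) (2 ^ (k + 1)), c.u (2 ^ (k + 1)) 0, c.v 0 0, k + 2,
    { ty := Or.inr h
      two := c.isPGroup
      c_mem := c.u_mem _ _
      e_mem := c.u_mem _ _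
      s_mem := c.v_mem _ _
      cc := by rw [c.u_mul_u, c.u_eq_one]; constructor <;> linear_combination hh
      ee := by rw [c.u_mul_u, c.u_eq_one]; exact ⟨by linear_combination hh, add_zero _⟩
      ss := by rw [c.v_mul_v, c.u_eq_one]; exact ⟨add_zero _, add_zero _⟩
      c_ne := by rw [Ne, c.u_eq_one]; exact fun h => h0 h.1
      c_cen := hcen _
      ses := ?_
      cen_inv := ?_
      ca := ?_
      rank := ?_
      flip := ?_
      der_i := ?_
      der_inv := ?_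
      inv := ?_
      cardT := ?_
      expT := ?_
      expD := ?_
      sq := Or.inr ?_
      sup := ?_
      aut := fun φ ho => ra_aut_of_two hA φ ho }⟩
  · rw [c.v_conj_u, c.u_mul_u, c.u_inj]
    exact ⟨by linear_combination -hh, (zero_add _).symm⟩
  · intro x hx hc hxx
    obtain ⟨i, rfl⟩ := hcen' x hx hc
    rw [c.u_mul_u, c.u_eq_one] at hxx
    rcases (h2z i).1 (by linear_combination hxx.1) with rfl | rfl
    · exact Or.inl c.u_zero
    · exact Or.inr rfl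
  · intro x hx a ha b hb h1 h2 h3
    rcases c.cases hx with ⟨i, j, rfl⟩ | ⟨i, j, rfl⟩
    · rcases c.cases ha with ⟨l, m, rfl⟩ | ⟨l, m, rfl⟩
      · rcases c.cases hb with ⟨l', m', rfl⟩ | ⟨l', m', rfl⟩
        · exact absurd (huu _ _ _ _) h3
        · rw [hvu _ _ _ _ h2.symm]; exact hcen _
      · rw [hvu _ _ _ _ h1.symm]; exact hcen _
    · exact absurd (c.commute_of_commute_v ha hb h1.eq h2.eq) h3
  · intro a ha b hb haa hbb hab
    rcases c.cases_of_sq_eq_one ha haa with h1 | rfl | rfl | h1 | ⟨i, rfl⟩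
    · exact Or.inl h1
    · rcases c.cases_of_sq_eq_one hb hbb with h1 | rfl | rfl | h1 | ⟨j, rfl⟩
      · exact Or.inr (Or.inl h1)
      · exact Or.inr (Or.inr (Or.inl rfl))
      · exact Or.inr (Or.inr (Or.inr (Or.inr (Or.inr (by rw [c.u_mul_u, add_zero, zero_add])))))
      · exact Or.inr (Or.inr (Or.inr (Or.inr (Or.inl h1))))
      · exact absurd (hvu _ _ _ _ hab.symm) h0
    · rcases c.cases_of_sq_eq_one hb hbb with h1 | rfl | rfl | h1 | ⟨j, rfl⟩
      · exact Or.inr (Or.inl h1)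
      · exact Or.inr (Or.inr (Or.inr (Or.inr (Or.inr (by rw [c.u_mul_u, add_zero, zero_add])))))
      · exact Or.inr (Or.inr (Or.inl rfl))
      · exact Or.inr (Or.inr (Or.inr (Or.inr (Or.inl h1))))
      · exact absurd (hvu _ _ _ _ hab.symm).symm h0
    · exact Or.inr (Or.inr (Or.inr (Or.inl h1)))
    · rcases c.cases_of_sq_eq_one hb hbb with h1 | rfl | rfl | h1 | ⟨j, rfl⟩
      · exact Or.inr (Or.inl h1)
      · exact absurd (hvu _ _ _ _ hab) h0
      · exact absurd (hvu _ _ _ _ hab).symm h0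
      · exact Or.inr (Or.inr (Or.inr (Or.inr (Or.inl h1))))
      · have h1 := hab.eq
        rw [c.v_mul_v, c.v_mul_v, c.u_inj] at h1
        rcases (h2z (i - j)).1 (by linear_combination h1.1) with h2 | h2
        · exact Or.inr (Or.inr (Or.inl (by rw [sub_eq_zero.1 h2])))
        · refine Or.inr (Or.inr (Or.inr (Or.inr (Or.inr ?_))))
          rw [c.v_mul_v, c.u_inj]
          exact ⟨by linear_combination h2, by linear_combination -h2 - hh⟩
  · intro y hy h1 h2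
    rcases c.cases hy with ⟨i, j, rfl⟩ | ⟨i, j, rfl⟩
    · refine ⟨c.v 0 0, c.v_mem _ _, ?_⟩
      rw [c.v_conj_u, c.u_mul_u, c.u_inj]
      rw [c.u_mul_u] at h2
      obtain ⟨m, hm⟩ := hcen' _ (c.u_mem _ _) h2
      rw [c.u_inj] at hm
      rcases (h2z (i - j)).1 (by linear_combination hm.1 - hm.2) with h3 | h3
      · rw [sub_eq_zero.1 h3] at h1
        exact absurd (hcen _) h1
      · exact ⟨by linear_combination -h3 - hh, by linear_combination h3⟩
    · refine ⟨c.u (2 ^ (k + 1)) 0, c.u_mem _ _, ?_⟩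
      rw [c.u_conj_v, c.v_mul_u, c.v_inj]
      exact ⟨by ring, by linear_combination -hh⟩
  · refine ⟨c.u (2 ^ k) (-2 ^ k), ?_, ?_⟩
    · rw [c.commutator_eq, c.mem_zpowers_antidiag]
      exact ⟨_, rfl⟩
    · rw [c.u_mul_u, c.u_inj]
      exact ⟨by ring, by linear_combination -hh⟩
  · intro x hx hxx
    rw [c.commutator_eq, c.mem_zpowers_antidiag] at hx
    obtain ⟨i, rfl⟩ := hx
    rw [c.u_mul_u, c.u_eq_one] at hxx
    rcases (h2z i).1 (by linear_combination hxx.1) with rfl | rfl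
    · exact Or.inl (by rw [neg_zero, c.u_zero])
    · exact Or.inr (by rw [Inv.WrC.neg_h])
  · intro r hr hrr hn
    rcases c.cases_of_sq_eq_one hr hrr with rfl | rfl | rfl | rfl | ⟨i, rfl⟩
    · exact absurd (one_mem _) hn
    · exact Or.inl ⟨1, one_mem _, by rw [one_mul, inv_one, mul_one]⟩
    · exact Or.inl ⟨_, c.v_mem 0 0, c.v_conj_u _ _ _ _⟩
    · exact absurd (hcen _) hn
    · refine Or.inr ⟨⟨c.u (2 ^ k) (2 ^ k), c.u_mem _ _, hcen _, ?_⟩, fun x hx hc => ?_⟩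
      · rw [c.u_mul_u, c.u_inj]; constructor <;> ring
      · rcases (c.commute_v_iff hx).1 hc.eq with ⟨j, rfl⟩ | ⟨j, rfl⟩
        · rw [c.u_mul_u]; exact hcen _
        · rw [c.v_sq]; exact hcen _
  · rw [hT, c.card_U, ← mul_pow, show 2 * 2 = 4 from rfl]
  · intro x hx hc
    obtain ⟨i, j, rfl⟩ := hU x hx hc
    rw [c.u_pow, hN, zero_mul, zero_mul, c.u_zero]
  · intro x hx
    rcases c.cases hx with ⟨i, j, rfl⟩ | ⟨i, j, rfl⟩
    · rw [c.u_pow, hN, zero_mul, zero_mul, c.u_zero]; exact one_mem _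
    · have : c.v i j ^ 2 ^ (k + 2) = (c.v i j * c.v i j) ^ 2 ^ (k + 1) := by
        rw [← pow_two, ← pow_mul, ← pow_succ']
      rw [this, c.v_sq, c.u_pow, c.commutator_eq, c.mem_zpowers_antidiag]
      refine ⟨_, (c.u_inj _ _ _ _).2 ⟨rfl, ?_⟩⟩
      push_cast
      linear_combination (i + j) * hh
  · intro x hx
    rcases c.cases hx with ⟨i, j, rfl⟩ | ⟨i, j, rfl⟩
    · exact Or.inl (huu _ _ _ _)
    · rw [c.v_mul_v]; exact Or.inr (huu _ _ _ _)
  · rintro X hX - ⟨a, ha, b, hb, hab⟩ -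
    obtain ⟨i, j, hv⟩ := hv X hX a ha b hb hab
    refine le_antisymm (sup_le hX inf_le_left) fun g hg => ?_
    rw [hT]
    rcases c.cases hg with ⟨l, m, rfl⟩ | ⟨l, m, rfl⟩
    · exact mem_sup_right (c.u_mem_U _ _)
    · have := mul_mem (mem_sup_right (S := X) (c.u_mem_U (l - i) (m - j))) (mem_sup_left hv)
      rwa [c.u_mul_v, sub_add_cancel, sub_add_cancel] at this

end Cfsg.Agent.L5T
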