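import Mathlib
import Cfsg.Agent.L5T.Defs2
import Cfsg.Agent.L5T.RAm
import Cfsg.Agent.L5T.RAsd
import Cfsg.Agent.L5T.RAw
import Cfsg.Agent.FGS.SchurTransfer

/-! S0511: elementary lemmas on `RA`, `DP`. -/

set_option autoImplicit false
set_option linter.unusedSectionVars false
set_option linter.unusedVariables false

namespace Cfsg.Agent.L5T

open Subgroup Cfsg.Agent.PLocal.Amb Cfsg.Agent.Lyons

open scoped commutatorElement

variable {G : Type*} [Group G] [Finite G]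

theorem commutator_le_self' (R : Subgroup G) : ⁅R, R⁆ ≤ R := commutator_le.2 fun _ ha _ hb =>
  mul_mem (mul_mem (mul_mem ha hb) (inv_mem ha)) (inv_mem hb)

theorem RT.exists_ra {R : Subgroup G} (h : RT R) : ∃ c e s k, RA R c e s k := by
  rcases h with h | h
  · obtain ⟨c, e, s, h⟩ := exists_ra_sd h
    exact ⟨c, e, s, 1, h⟩
  · exact exists_ra_w h

namespace RA

variable {R : Subgroup G} {c e s : G} {k : ℕ} (h : RA R c e s k)
include h

theorem not_comm : ¬ Commute e s := by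
  intro hc
  exact h.c_ne (left_eq_mul.1 ((conj_eq_of_comm hc).symm.trans h.ses))

theorem e_not_cen : e ∉ 𝐂[R] := by
  exact fun hc => h.not_comm (hc s h.s_mem).symm

theorem ce : Commute c e := by
  exact (h.c_cen e h.e_mem).symm

theorem fo : Fo c e := by
  have := Fact.mk Nat.prime_two
  refine ⟨orderOf_eq_prime (by rw [pow_two, h.cc]) h.c_ne, orderOf_eq_prime (by rw [pow_two, h.ee]) ?_, ?_, h.ce⟩
  · exact fun c => h.e_not_cen (c ▸ one_mem _)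
  · exact fun c => h.e_not_cen (c ▸ h.c_cen)

theorem c_mem_der : c ∈ ⁅R, R⁆ := by
  obtain ⟨i, hi, e⟩ := h.der_i
  exact e ▸ mul_mem hi hi

/-- `a ↦ a ⟨c⟩`; by `rank` the elements of `E` lie in `{1, c, a, a c}` or `{1, a, b, a b}` -/
theorem card_le_four {E : Subgroup G} (hE : E ≤ R) (h2 : ∀ a ∈ E, a * a = 1) : Nat.card E ≤ 4 := by
  classical
  have inv : ∀ a ∈ E, a⁻¹ = a := fun a ha => inv_eq_of_mul_eq_one_right (h2 a ha)
  have cm : ∀ a ∈ E, ∀ b ∈ E, Commute a b := fun a ha b hb => by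
    have := inv _ (mul_mem ha hb)
    rw [mul_inv_rev, inv a ha, inv b hb] at this
    exact this.symm
  obtain ⟨a, ha⟩ : ∃ a, ∀ x ∈ E, x = 1 ∨ x = c ∨ x = a ∨ x = a * c := by
    by_cases h0 : ∀ x ∈ E, x = 1 ∨ x = c
    · exact ⟨1, fun x hx => (h0 x hx).imp_right Or.inl⟩
    push Not at h0
    obtain ⟨a, ha, a1, a2⟩ := h0
    refine ⟨a, fun x hx => ?_⟩
    rcases h.rank a (hE ha) x (hE hx) (h2 a ha) (h2 x hx) (cm a ha x hx) with e | e | e | e | e | e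
    exacts [absurd e a1, .inl e, .inr (.inr (.inl e.symm)), absurd e a2, .inr (.inl e),
      .inr (.inr (.inr (by rw [← e, ← mul_assoc, h2 a ha, one_mul])))]
  calc Nat.card E ≤ Nat.card ({1, c, a, a * c} : Finset G) :=
        Nat.card_mono (Set.toFinite _) fun x hx => by simpa using ha x hx
    _ ≤ 4 := by rw [Nat.card_eq_fintype_card, Fintype.card_coe]; exact Finset.card_le_four

/-- `inf_centralizer_ne_bot`, an element of order 2 (Cauchy), `cen_inv` -/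
theorem c_mem_of_norm {N : Subgroup G} (hN : N ≤ R) (hn : R ≤ 𝐍[N]) (h1 : N ≠ ⊥) : c ∈ N := by
  have h2 := inf_centralizer_ne_bot h.two (h.two.to_le hN) hn h1
  obtain ⟨n, hn⟩ := (h.two.to_le (inf_le_left.trans hN : N ⊓ 𝐂[R] ≤ R)).exists_card_eq
  obtain ⟨x, hx⟩ := exists_prime_orderOf_dvd_card' (G := (N ⊓ 𝐂[R] : Subgroup G)) 2 (by
    rw [hn]
    exact dvd_pow_self 2 fun e => h2 (card_eq_one.1 (by rw [hn, e, pow_zero])))
  rw [← orderOf_coe] at hx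
  rcases h.cen_inv x (hN x.2.1) x.2.2 (by rw [← pow_two, ← hx, pow_orderOf_eq_one]) with e | e
  · rw [e, orderOf_one] at hx; omega
  · exact e ▸ x.2.1

/-- `aut` for `normalizerMonoidHom` -/
theorem cen_of_odd {g : G} (hg : g ∈ 𝐍[R]) (ho : Odd (orderOf g)) : g ∈ 𝐂[R] := by
  have := h.aut (R.normalizerMonoidHom ⟨g, hg⟩) (ho.of_dvd_nat (by
    rw [← orderOf_mk g hg]; exact orderOf_map_dvd _ _))
  rw [← MonoidHom.mem_ker, normalizerMonoidHom_ker] at this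
  exact this

/-- `(L ⊓ N(R)) / (L ⊓ C(R))` is a 2-group (the odd part of an element centralizes `R`):
`mem_of_pow_mem`-like argument, or Frattini -/
theorem norm_decomp {P L : Subgroup G} (hP : IsSyl 2 P L) (hn : P ≤ 𝐍[R]) {g : G} (hg : g ∈ L)
    (hg' : g ∈ 𝐍[R]) : ∃ b ∈ P, ∃ y ∈ L ⊓ 𝐂[R], g = b * y := by
  have h1 := hP.mono (le_inf hP.le hn) inf_le_left
  have h2 : 𝐎[2, L ⊓ 𝐍[R]] ≤ L ⊓ 𝐂[R] := pRes_le_iff.2 fun x hx hc =>
    ⟨hx.1, h.cen_of_odd hx.2 (Nat.coprime_two_right.1 hc)⟩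
  have h3 : g ∈ P ⊔ 𝐎[2, L ⊓ 𝐍[R]] := by rw [sup_comm, h1.pRes_sup]; exact ⟨hg, hg'⟩
  obtain ⟨b, hb, y, hy, e⟩ :=
    (mem_sup_of_le_normalizer_right (h1.le.trans (le_normalizer_pRes 2 _))).1 h3
  exact ⟨b, hb, y, h2 hy, e⟩

/-- take the largest `i` with `y ^ 2 ^ i ∉ Z(R)` and use `flip` -/
theorem exists_flip {y : G} (hy : y ∈ R) (hc : y ∉ 𝐂[R]) :
    ∃ n : ℕ, ∃ r ∈ R, r * y ^ n * r⁻¹ = y ^ n * c := by
  obtain ⟨n, hn⟩ := isPGroup_iff.1 h.two y hy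
  replace hn : y ^ 2 ^ n ∈ 𝐂[R] := hn ▸ one_mem _
  induction n with
  | zero => exact absurd (by simpa using hn) hc
  | succ n ih =>
    by_cases h1 : y ^ 2 ^ n ∈ 𝐂[R]
    · exact ih h1
    · exact ⟨_, h.flip _ (pow_mem hy _) h1 (by rwa [← pow_two, ← pow_mul, ← pow_succ])⟩

end RA

/-- the central involution is determined -/
theorem RT.exists_ra' {R : Subgroup G} (h : RT R) {c : G} (hc : c ∈ R) (hc' : c ∈ 𝐂[R])
    (h2 : c * c = 1) (h1 : c ≠ 1) : ∃ e s k, RA R c e s k := by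
  obtain ⟨c', e, s, k, h'⟩ := h.exists_ra
  obtain rfl := (h'.cen_inv c hc hc' h2).resolve_left h1
  exact ⟨e, s, k, h'⟩

namespace DP

variable {B R₁ R₂ : Subgroup G} (h : DP B R₁ R₂)
include h

theorem symm : DP B R₂ R₁ := by
  exact ⟨fun a ha b hb => (h.comm b hb a ha).symm, inf_comm R₁ R₂ ▸ h.disj, sup_comm R₁ R₂ ▸ h.B_eq⟩

theorem le₁ : R₁ ≤ B := by
  exact h.B_eq ▸ le_sup_left

theorem le₂ : R₂ ≤ B := by
  exact h.B_eq ▸ le_sup_right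

theorem mem_iff {x : G} : x ∈ B ↔ ∃ a ∈ R₁, ∃ b ∈ R₂, x = a * b := by
  rw [h.B_eq]
  exact mem_sup_of_le_normalizer_right fun a ha =>
    centralizer_le_normalizer' _ fun b hb => (h.comm a ha b hb).symm

theorem uniq {a b a' b' : G} (ha : a ∈ R₁) (hb : b ∈ R₂) (ha' : a' ∈ R₁) (hb' : b' ∈ R₂)
    (e : a * b = a' * b') : a = a' ∧ b = b' := by
  have h1 : a'⁻¹ * a = b' * b⁻¹ := by rw [inv_mul_eq_iff_eq_mul, ← mul_assoc, ← e]; simp
  have h2 : a'⁻¹ * a = 1 := mem_bot.1 (h.disj ▸ mem_inf.2 ⟨mul_mem (inv_mem ha') ha,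
    h1 ▸ mul_mem hb' (inv_mem hb)⟩)
  obtain rfl := inv_mul_eq_one.1 h2
  exact ⟨rfl, mul_left_cancel e⟩

theorem commute_iff {a b a' b' : G} (ha : a ∈ R₁) (hb : b ∈ R₂) (ha' : a' ∈ R₁) (hb' : b' ∈ R₂) :
    Commute (a * b) (a' * b') ↔ Commute a a' ∧ Commute b b' := by
  refine ⟨fun c => h.uniq (mul_mem ha ha') (mul_mem hb hb') (mul_mem ha' ha) (mul_mem hb' hb) ?_,
    fun c => (c.1.mul_right (h.comm a ha b' hb')).mul_left ((h.comm a' ha' b hb).symm.mul_right c.2)⟩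
  rw [(h.comm a' ha' b hb).mul_mul_mul_comm, c.eq, (h.comm a ha b' hb').mul_mul_mul_comm]

theorem pow {a b : G} (ha : a ∈ R₁) (hb : b ∈ R₂) (n : ℕ) : (a * b) ^ n = a ^ n * b ^ n := by
  exact (h.comm a ha b hb).mul_pow n

theorem sq_iff {a b : G} (ha : a ∈ R₁) (hb : b ∈ R₂) :
    a * b * (a * b) = 1 ↔ a * a = 1 ∧ b * b = 1 := by
  rw [(h.comm a ha b hb).symm.mul_mul_mul_comm]
  exact ⟨fun e => h.uniq (mul_mem ha ha) (mul_mem hb hb) (one_mem _) (one_mem _)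
    (e.trans (mul_one 1).symm), fun e => by rw [e.1, e.2, mul_one]⟩

theorem norm₁ : B ≤ 𝐍[R₁] := by
  rw [h.B_eq]
  exact sup_le le_normalizer fun b hb => centralizer_le_normalizer' _ fun a ha => h.comm a ha b hb

theorem norm₂ : B ≤ 𝐍[R₂] := by
  exact h.symm.norm₁

theorem card : Nat.card B = Nat.card R₁ * Nat.card R₂ := by
  let f : R₁ × R₂ → B := fun p => ⟨p.1 * p.2, mul_mem (h.le₁ p.1.2) (h.le₂ p.2.2)⟩
  rw [← Nat.card_prod]
  refine (Nat.card_congr (Equiv.ofBijective f ⟨fun p q e => ?_, fun x => ?_⟩)).symm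
  · obtain ⟨e1, e2⟩ := h.uniq p.1.2 p.2.2 q.1.2 q.2.2 (congrArg Subtype.val e)
    exact Prod.ext (Subtype.ext e1) (Subtype.ext e2)
  · obtain ⟨a, ha, b, hb, e⟩ := h.mem_iff.1 x.2
    exact ⟨(⟨a, ha⟩, ⟨b, hb⟩), Subtype.ext e.symm⟩

theorem comm_mul {a b a' b' : G} (ha : a ∈ R₁) (hb : b ∈ R₂) (ha' : a' ∈ R₁) (hb' : b' ∈ R₂) :
    ⁅a * b, a' * b'⁆ = ⁅a, a'⁆ * ⁅b, b'⁆ := by
  simp only [commutatorElement_def]
  rw [← (h.comm _ (inv_mem ha') _ (mul_mem (mul_mem hb hb') (inv_mem hb))).symm.mul_mul_mul_comm,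
    ← (h.comm _ (inv_mem ha) _ (mul_mem hb hb')).symm.mul_mul_mul_comm,
    ← (h.comm _ ha' _ hb).symm.mul_mul_mul_comm, mul_inv_rev, mul_inv_rev,
    (h.comm _ (inv_mem ha) _ (inv_mem hb)).eq, (h.comm _ (inv_mem ha') _ (inv_mem hb')).eq]

theorem mem_der {x : G} (hx : x ∈ ⁅B, B⁆) : ∃ a ∈ ⁅R₁, R₁⁆, ∃ b ∈ ⁅R₂, R₂⁆, x = a * b := by
  have l₁ : ⁅R₁, R₁⁆ ≤ R₁ := commutator_le_self' R₁
  have l₂ : ⁅R₂, R₂⁆ ≤ R₂ := commutator_le_self' R₂
  refine (mem_sup_of_le_normalizer_right fun a ha => centralizer_le_normalizer' _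
    fun b hb => (h.comm a (l₁ ha) b (l₂ hb)).symm).1 (commutator_le.2 (fun x hx y hy => ?_) hx)
  obtain ⟨a, ha, b, hb, rfl⟩ := h.mem_iff.1 hx
  obtain ⟨a', ha', b', hb', rfl⟩ := h.mem_iff.1 hy
  rw [h.comm_mul ha hb ha' hb']
  exact mul_mem_sup (commutator_mem_commutator ha ha') (commutator_mem_commutator hb hb')

theorem mem_cen {a b : G} (ha : a ∈ R₁) (hb : b ∈ R₂) : a * b ∈ 𝐂[R₁] ↔ a ∈ 𝐂[R₁] := by
  exact mul_mem_cancel_right fun x hx => h.comm x hx b hb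

/-- the projection onto the first factor -/
theorem exists_proj : ∃ π : B →* G, ∀ x : B, π x ∈ R₁ ∧ (π x)⁻¹ * x ∈ R₂ := by
  choose f hf g hg e using fun x : B => h.mem_iff.1 x.2
  refine ⟨MonoidHom.mk' f fun x y => (h.uniq (hf (x * y)) (hg (x * y)) (mul_mem (hf x) (hf y))
    (mul_mem (hg x) (hg y)) ?_).1, fun x => ⟨hf x, ?_⟩⟩
  · rw [← e, (h.comm _ (hf y) _ (hg x)).mul_mul_mul_comm, ← e, ← e, coe_mul]
  · change (f x)⁻¹ * x ∈ R₂
    rw [e x, inv_mul_cancel_left]; exact hg x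

/-- two complements of `R₂` are isomorphic -/
theorem rt {R : Subgroup G} (h' : DP B R R₂) (hr : RT R₁) : RT R := by
  obtain ⟨π, hπ⟩ := h'.exists_proj
  let f : R₁ →* R := (π.comp (inclusion h.le₁)).codRestrict R fun x => (hπ _).1
  refine hr.of_equiv (MulEquiv.ofBijective f (Function.Injective.bijective_of_nat_card_le
    ((injective_iff_map_eq_one f).2 fun x hx => ?_) ?_))
  · have := (hπ (inclusion h.le₁ x)).2
    rw [show π (inclusion h.le₁ x) = 1 from congrArg Subtype.val hx, inv_one, one_mul] at this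
    exact Subtype.ext (mem_bot.1 (h.disj ▸ mem_inf.2 ⟨x.2, this⟩))
  · exact (Nat.eq_of_mul_eq_mul_right Nat.card_pos (h'.card.symm.trans h.card)).le

/-- If `X ≤ B` has an element `a b` of `X'` with `a ≠ 1`, the projection of `X` is nonabelian. -/
theorem exists_noncomm {X : Subgroup G} (hX : X ≤ B) {a b : G} (ha : a ∈ R₁) (hb : b ∈ R₂)
    (hx : a * b ∈ ⁅X, X⁆) (h1 : a ≠ 1) : ∃ a₁ ∈ R₁, ∃ b₁ ∈ R₂, ∃ a₂ ∈ R₁, ∃ b₂ ∈ R₂,
      a₁ * b₁ ∈ X ∧ a₂ * b₂ ∈ X ∧ ¬ Commute a₁ a₂ := by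
  by_contra hn
  push Not at hn
  have : a * b ∈ R₂ := commutator_le.2 (fun x hx y hy => by
    obtain ⟨a, ha, b, hb, rfl⟩ := h.mem_iff.1 (hX hx)
    obtain ⟨a', ha', b', hb', rfl⟩ := h.mem_iff.1 (hX hy)
    rw [h.comm_mul ha hb ha' hb', (hn a ha b hb a' ha' b' hb' hx hy).commutator_eq, one_mul]
    exact mul_mem (mul_mem (mul_mem hb hb') (inv_mem hb)) (inv_mem hb')) hx
  exact h1 (mem_bot.1 (h.disj ▸ mem_inf.2 ⟨ha, (mul_mem_cancel_right hb).1 this⟩))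

end DP

/-- the extremal lemma: Sylow's theorem in `L ⊓ C(y)` (the name `L5T.extremal` is taken by `L5T/LC`;
this one is `Lyons.extremal`, reachable as `extremal` unless `L5T.LC` is imported) -/
theorem _root_.Cfsg.Agent.Lyons.extremal {P L T : Subgroup G} {x y g₀ : G} (hP : IsSyl 2 (P ⊓ 𝐳[y]) (L ⊓ 𝐳[y]))
    (hg : g₀ ∈ L) (e : g₀ * x * g₀⁻¹ = y) (hT : IsPGroup 2 T) (hTL : T ≤ L) (hTx : T ≤ 𝐳[x]) :
    ∃ g ∈ L, g * x * g⁻¹ = y ∧ cj(g, T) ≤ P := by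
  obtain ⟨c, hc, h1⟩ := hP.exists_cj_le (isPGroup_cj g₀ hT) (le_inf (cj_le_of_mem hTL hg) (by
    rw [← e, centralizer_singleton_conj]; exact cj_mono g₀ hTx))
  refine ⟨c * g₀, mul_mem hc.1 hg, ?_, cj_mul c g₀ T ▸ h1.trans inf_le_left⟩
  rw [show c * g₀ * x * (c * g₀)⁻¹ = c * (g₀ * x * g₀⁻¹) * c⁻¹ by group, e,
    conj_eq_of_comm (mem_cent.1 hc.2)]

/-- every class meeting `P` has an extremal member (take `|P ⊓ C(y)|` maximal, or conjugate a Sylow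
2-subgroup of `L ⊓ C(x)` into `P`) -/
theorem exists_extremal {P L : Subgroup G} (hP : IsSyl 2 P L) {x : G} (hx : x ∈ P) :
    ∃ g ∈ L, g * x * g⁻¹ ∈ P ∧ IsSyl 2 (P ⊓ 𝐳[g * x * g⁻¹]) (L ⊓ 𝐳[g * x * g⁻¹]) := by
  obtain ⟨Q, hQ, h1⟩ := exists_isSyl_ge (hP.pgrp.to_le (zpowers_le.2 hx))
    (zpowers_le.2 ⟨hP.le hx, mem_cent.2 (Commute.refl x)⟩ : zpowers x ≤ L ⊓ 𝐳[x])
  obtain ⟨g, hg, h2⟩ := hP.exists_cj_le hQ.pgrp (hQ.le.trans inf_le_left)
  have h3 := hQ.cj g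
  rw [cj_inf, cj_of_mem hg, ← centralizer_singleton_conj] at h3
  refine ⟨g, hg, h2 (conj_mem_cj g (h1 (mem_zpowers x))), ?_⟩
  rwa [h3.eq (hP.pgrp.to_le inf_le_left) (le_inf h2 (h3.le.trans inf_le_right))
    (inf_le_inf_right _ hP.le)]

/-- control of fusion by a weakly closed subgroup: `W` and `cj(g, W)` are 2-subgroups of
`L ⊓ C(x')`; conjugate both into a Sylow 2-subgroup of `L ⊓ C(x')` and that into `P` -/
theorem control {P L W : Subgroup G} (hP : IsSyl 2 P L) (hW : W ≤ P)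
    (wc : ∀ g ∈ L, cj(g, W) ≤ P → cj(g, W) = W) {x g : G} (hx : x ∈ 𝐂[W]) (hg : g ∈ L)
    (hx' : g * x * g⁻¹ ∈ 𝐂[W]) : ∃ n ∈ L ⊓ 𝐍[W], n * x * n⁻¹ = g * x * g⁻¹ := by
  have hWL := hW.trans hP.le
  have p := hP.pgrp.to_le hW
  have k : ∀ y ∈ 𝐂[W], W ≤ 𝐳[y] := fun y hy a ha => mem_centralizer_singleton_iff.2 (hy a ha)
  obtain ⟨Q, hQ, h1⟩ := exists_isSyl_ge p (le_inf hWL (k _ hx'))
  obtain ⟨c, hc, h2⟩ := hQ.exists_cj_le (isPGroup_cj g p) (le_inf (cj_le_of_mem hWL hg) (by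
    rw [centralizer_singleton_conj]; exact cj_mono g (k _ hx)))
  obtain ⟨u, hu, h3⟩ := hP.exists_cj_le hQ.pgrp (hQ.le.trans inf_le_left)
  have h4 := wc u hu ((cj_mono u h1).trans h3)
  have h5 := wc (u * (c * g)) (mul_mem hu (mul_mem hc.1 hg)) (by
    rw [cj_mul, cj_mul]; exact (cj_mono u h2).trans h3)
  rw [cj_mul, ← h4, cj_inj, h4, cj_eq_iff] at h5
  refine ⟨c * g, ⟨mul_mem hc.1 hg, h5⟩, ?_⟩
  rw [show c * g * x * (c * g)⁻¹ = c * (g * x * g⁻¹) * c⁻¹ by group,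
    conj_eq_of_comm (mem_cent.1 hc.2)]

/-- transfer into a central 2-subgroup (`Mult.inf_commutator_le_of_coprime` in `↥X`) -/
theorem mem_der_of_central {P X : Subgroup G} (hP : IsSyl 2 P X) {x : G} (hx : x ∈ P)
    (hc : x ∈ 𝐂[X]) (h : x ∈ ⁅X, X⁆) : x ∈ ⁅P, P⁆ := by
  have h1 := FGS.pow_index_mem_commutator_of_mem_center (P.subgroupOf X) (z := ⟨x, hP.le hx⟩)
    (mem_center_iff.2 fun g => Subtype.ext (hc g g.2))
    (mem_map_subtype.1 (by rwa [map_subtype_commutator]))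
  have h2 := mem_map_of_mem X.subtype h1
  rw [map_commutator, map_subgroupOf_of_le hP.le] at h2
  obtain ⟨n, hn⟩ := isPGroup_iff.1 hP.pgrp x hx
  exact mem_of_pow_mem_of_coprime h2 (Nat.Coprime.coprime_dvd_left (orderOf_dvd_of_pow_eq_one hn)
    (Nat.Coprime.pow_left n ((Nat.Prime.coprime_iff_not_dvd Nat.prime_two).2 hP.not_dvd_relIndex)))

/-- a 2-element of `O²(X)` lies in `X'` -/
theorem mem_der_of_pRes {X : Subgroup G} {x : G} {n : ℕ} (hx : x ∈ 𝐎[2, X]) (h : x ^ 2 ^ n = 1) :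
    x ∈ ⁅X, X⁆ := by
  obtain ⟨x, hx, rfl⟩ := hx
  have h1 : Odd (orderOf (Abelianization.of x)) := by
    clear h
    induction hx using closure_induction with
    | mem y hy => exact (Nat.coprime_two_right.1 hy).of_dvd_nat (orderOf_map_dvd _ _)
    | one => simp
    | mul y z _ _ a b =>
      rw [map_mul]
      exact (a.mul b).of_dvd_nat (Commute.all _ _).orderOf_mul_dvd_mul_orderOf
    | inv y _ a => rwa [map_inv, orderOf_inv]
  have h2 : Abelianization.of x ∈ (⊥ : Subgroup _) := mem_of_odd_of_pow h1 (k := n) (by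
    rw [← map_pow, show x ^ 2 ^ n = 1 from Subtype.ext h, map_one]; exact one_mem _)
  rw [← map_subtype_commutator]
  exact mem_map_of_mem _ (Abelianization.ker_of X ▸ h2)

/-- two 2-elements congruent modulo an odd subgroup that they normalize are conjugate under it
(Sylow in `O ⊔ ⟨x⟩`) -/
theorem conj_of_odd {O : Subgroup G} (hO : Odd (Nat.card O)) {x y : G} {n : ℕ} (hx : x ∈ 𝐍[O])
    (h1 : x ^ 2 ^ n = 1) (h2 : y ^ 2 ^ n = 1) (h : y * x⁻¹ ∈ O) : ∃ o ∈ O, o * x * o⁻¹ = y := by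
  have p := isPGroup_zpowers (p := 2) ⟨n, h1⟩
  have n : zpowers x ≤ 𝐍[O] := zpowers_le.2 hx
  have one : ∀ {R : Subgroup G}, IsPGroup 2 R → ∀ o ∈ O, o ∈ R → o = 1 := fun hR o ho h' =>
    eq_one_of_odd hR h' (odd_orderOf hO ho)
  have hs : IsSyl 2 (zpowers x) (O ⊔ zpowers x) := ⟨le_sup_right, p, fun R hR a b u hu => by
    obtain ⟨o, ho, v, hv, rfl⟩ := (mem_sup_of_le_normalizer_left n).1 (b hu)
    rwa [one hR o ho ((mul_mem_cancel_right (a hv)).1 hu), one_mul]⟩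
  obtain ⟨g, hg, h3⟩ := hs.exists_cj_le (isPGroup_zpowers ⟨_, h2⟩) (zpowers_le.2 (by
    simpa using mul_mem_sup h (mem_zpowers x)))
  obtain ⟨o, ho, v, hv, e⟩ := (mem_sup_of_le_normalizer_left n).1 (inv_mem hg)
  have h4 := conj_mem_of_mem_normalizer (le_normalizer hv) (h3 (conj_mem_cj g (mem_zpowers y)))
  rw [show v * (g * y * g⁻¹) * v⁻¹ = o⁻¹ * y * o by
    rw [← inv_inv g, e]; group] at h4
  have h5 := one p (o⁻¹ * y * o * x⁻¹) (by
    simpa [mul_assoc] using mul_mem (mul_mem (inv_mem ho) h) (conj_mem_of_mem_normalizer hx ho))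
    (mul_mem h4 (inv_mem (mem_zpowers x)))
  exact ⟨o, ho, by rw [← mul_inv_eq_one.1 h5]; group⟩

end Cfsg.Agent.L5T
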