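import Mathlib
import Cfsg.Agent.L5T.Basic

/-! S0511: the Sylow subgroup `S = (R₁ × R₂)⟨w⟩`. -/

set_option autoImplicit false
set_option linter.unusedSectionVars false

namespace Cfsg.Agent.L5T

open Subgroup Cfsg.Agent.PLocal.Amb Cfsg.Agent.Lyons

variable {G : Type*} [Group G] [Finite G]

namespace Su

theorem back {w x y : G} (ww : w * w = 1) (e : w * x * w⁻¹ = y) : w * y * w⁻¹ = x := by
  rw [← e, show w * (w * x * w⁻¹) * w⁻¹ = w * w * x * (w * w)⁻¹ by group, ww]; group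

theorem ord2 {x : G} (h : x * x = 1) (h1 : x ≠ 1) : orderOf x = 2 :=
  orderOf_eq_prime ((pow_two x).trans h) h1

theorem mem_zp {s x : G} (h : orderOf s = 2) (hx : x ∈ zpowers s) : x = 1 ∨ x = s := by
  classical
  obtain ⟨n, hn, rfl⟩ := Finset.mem_image.1 (mem_zpowers_iff_mem_range_orderOf.1 hx)
  rw [h, Finset.mem_range] at hn
  interval_cases n <;> simp

theorem dp_sup {R₁ R₂ A₁ A₂ B : Subgroup G} (h : DP B R₁ R₂) (h1 : A₁ ≤ R₁) (h2 : A₂ ≤ R₂) :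
    DP (A₁ ⊔ A₂) A₁ A₂ :=
  ⟨fun a ha b hb => h.comm a (h1 ha) b (h2 hb), le_bot_iff.1 ((inf_le_inf h1 h2).trans h.disj.le), rfl⟩

theorem dp_VV {s t : G} (h : Fo s t) : DP (VV s t) (zpowers s) (zpowers t) := by
  refine ⟨fun a ha b hb => ?_, le_bot_iff.1 fun x hx => ?_, ?_⟩
  · rcases mem_zp h.l ha with rfl | rfl <;> rcases mem_zp h.r hb with rfl | rfl <;>
      simp [h.comm]
  · rcases mem_zp h.l hx.1 with a | a
    · exact a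
    · exact (mem_zp h.r hx.2).resolve_right fun b => h.ne (a.symm.trans b)
  · rw [zpowers_eq_closure, zpowers_eq_closure, ← Subgroup.closure_union]; rfl

theorem card_VV {s t : G} (h : Fo s t) : Nat.card (VV s t) = 4 := by
  rw [(dp_VV h).card, Nat.card_zpowers, Nat.card_zpowers, h.l, h.r]

theorem mem_VV {s t x : G} (h : Fo s t) (hx : x ∈ VV s t) : x = 1 ∨ x = s ∨ x = t ∨ x = t * s := by
  obtain ⟨a, ha, b, hb, rfl⟩ := (dp_VV h).mem_iff.1 hx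
  rcases mem_zp h.l ha with rfl | rfl <;> rcases mem_zp h.r hb with rfl | rfl <;> simp [h.comm.eq]

theorem fo_of {R : Subgroup G} {c e s a : G} {k : ℕ} (h : RA R c e s k) (ha : a ∈ R)
    (h1 : a * a = 1) (h3 : a ∉ 𝐂[R]) : Fo c a :=
  ⟨h.fo.l, ord2 h1 fun e => h3 (e ▸ one_mem _), fun e => h3 (e ▸ h.c_cen), (h.c_cen a ha).symm⟩

theorem VV_le {R : Subgroup G} {c a : G} (hc : c ∈ R) (ha : a ∈ R) : VV c a ≤ R :=
  (closure_le _).2 (by rintro _ (rfl | rfl) <;> assumption)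

theorem sq_VV {s t x : G} (h : Fo s t) (hx : x ∈ VV s t) : x * x = 1 := by
  have a : s * s = 1 := by rw [← pow_two, ← h.l, pow_orderOf_eq_one]
  have b : t * t = 1 := by rw [← pow_two, ← h.r, pow_orderOf_eq_one]
  rcases mem_VV h hx with rfl | rfl | rfl | rfl
  exacts [mul_one 1, a, b, by rw [h.comm.mul_mul_mul_comm, a, b, mul_one]]

theorem AA_eq (a b c d : G) : AA a b c d = VV a b ⊔ VV c d := by
  rw [← Subgroup.closure_union, Set.insert_union, Set.singleton_union]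

theorem comm_of_sq {E : Subgroup G} (h2 : ∀ a ∈ E, a * a = 1) {a b : G} (ha : a ∈ E) (hb : b ∈ E) :
    a * b = b * a := by
  rw [← inv_eq_of_mul_eq_one_right (h2 _ (mul_mem ha hb)), mul_inv_rev,
    inv_eq_of_mul_eq_one_right (h2 _ ha), inv_eq_of_mul_eq_one_right (h2 _ hb)]

theorem proj {B R₁ R₂ E : Subgroup G} (h : DP B R₁ R₂) (hE : E ≤ B) : ∃ F ≤ R₁,
    Nat.card (R₂ ⊓ E : Subgroup G) * Nat.card F = Nat.card E ∧ ∀ a ∈ F, ∃ b ∈ R₂, a * b ∈ E := by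
  obtain ⟨π, hπ⟩ := h.exists_proj
  refine ⟨(π.comp (inclusion hE)).range, ?_, ?_, ?_⟩
  · rintro _ ⟨x, rfl⟩
    exact (hπ _).1
  · rw [← index_ker, ← Grp.card_subgroupOf, ← card_mul_index (π.comp (inclusion hE)).ker]
    congr 3
    ext x
    have a := hπ (inclusion hE x)
    refine ⟨fun hx => ?_, fun hx => ?_⟩
    · exact (h.uniq a.1 a.2 (one_mem _) hx (by simp)).1
    · have := a.2
      rwa [show π (inclusion hE x) = 1 from hx, inv_one, one_mul] at this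
  · rintro _ ⟨x, rfl⟩
    exact ⟨_, (hπ (inclusion hE x)).2, by simp⟩

theorem fix_of {P : Subgroup G} (hP : IsPGroup 2 P) {g a v : G} (ho : Odd (orderOf g)) (hv : v ∈ P)
    (e : g * a * g⁻¹ = a * v) (hg : g * v * g⁻¹ = v) : g * a * g⁻¹ = a := by
  have key : ∀ n : ℕ, g ^ n * a * (g ^ n)⁻¹ = a * v ^ n := fun n => by
    induction n with
    | zero => simp
    | succ n ih =>
      rw [pow_succ', show g * g ^ n * a * (g * g ^ n)⁻¹ = g * (g ^ n * a * (g ^ n)⁻¹) * g⁻¹ by group,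
        ih, ← conj_mul, e, ← conj_pow, hg, mul_assoc, pow_succ']
  have h1 := key (orderOf g)
  rw [pow_orderOf_eq_one, one_mul, inv_one, mul_one, left_eq_mul] at h1
  rw [e, eq_one_of_odd hP hv (ho.of_dvd_nat (orderOf_dvd_of_pow_eq_one h1)), mul_one]

variable {S B R₁ R₂ : Subgroup G} {w c₁ e₁ s₁ c₂ e₂ s₂ : G} {k : ℕ}
  (h : Su S B R₁ R₂ w c₁ e₁ s₁ c₂ e₂ s₂ k)
include h

theorem dp : DP B R₁ R₂ := ⟨h.comm, h.disj, h.B_eq⟩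

theorem symm : Su S B R₂ R₁ w c₂ e₂ s₂ c₁ e₁ s₁ k :=
  ⟨h.syl, h.ra₂, h.ra₁, h.ww, by rw [← h.wR, ← cj_mul, h.ww, cj_one], back h.ww h.wc, back h.ww h.we,
    back h.ww h.ws, h.dp.symm.comm, h.dp.symm.disj, h.dp.symm.B_eq, h.B_le, h.w_mem, h.mem⟩

theorem two : IsPGroup 2 B := h.syl.pgrp.to_le h.B_le

theorem fo : Fo c₁ c₂ :=
  ⟨h.ra₁.fo.l, h.ra₂.fo.l, fun e => h.ra₁.c_ne (h.disj.le ⟨h.ra₁.c_mem, e ▸ h.ra₂.c_mem⟩),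
    h.comm _ h.ra₁.c_mem _ h.ra₂.c_mem⟩

theorem cen_eq : 𝐂[B] = 𝐂[R₁] ⊓ 𝐂[R₂] := by rw [h.B_eq, centralizer_sup]

theorem le_cen : R₁ ≤ 𝐂[R₂] := fun a ha b hb => (h.comm a ha b hb).symm

theorem c₁_cen : c₁ ∈ 𝐂[B] := h.cen_eq.ge ⟨h.ra₁.c_cen, h.le_cen h.ra₁.c_mem⟩

theorem c₂_cen : c₂ ∈ 𝐂[B] := h.symm.c₁_cen

theorem c₁_mem : c₁ ∈ B := h.dp.le₁ h.ra₁.c_mem

theorem c₂_mem : c₂ ∈ B := h.symm.c₁_mem

theorem w_not : w ∉ B := fun hw =>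
  h.fo.ne ((conj_eq_of_comm (h.c₁_cen w hw).symm).symm.trans h.wc)

theorem w_norm : w ∈ 𝐍[B] := by
  rw [← cj_eq_iff, h.B_eq, cj_sup, h.wR, h.symm.wR, sup_comm]

theorem eq_mul (f : G) : f = f * w * w := by rw [mul_assoc, h.ww, mul_one]

theorem norm : S ≤ 𝐍[B] := fun x hx =>
  (h.mem x hx).elim (le_normalizer ·) fun a => h.eq_mul x ▸ mul_mem (le_normalizer a) h.w_norm

theorem relIndex : B.relIndex S = 2 :=
  relIndex_eq_two_iff.2 ⟨w, h.w_mem, fun b hb => by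
    by_cases a : b ∈ B
    · exact .inr ⟨a, fun e => h.w_not ((mul_mem_cancel_left a).1 e)⟩
    · exact .inl ⟨(h.mem b hb).resolve_left a, a⟩⟩

theorem mul_mem_B {x y : G} (hx : x ∈ S) (hy : y ∈ S) : x * y ∈ B ↔ (x ∈ B ↔ y ∈ B) :=
  mul_mem_iff_of_index_two (H := B.subgroupOf S) h.relIndex (a := ⟨x, hx⟩) (b := ⟨y, hy⟩)

theorem sq_mem {x : G} (hx : x ∈ S) : x * x ∈ B := (h.mul_mem_B hx hx).2 Iff.rfl

theorem der_le : ⁅S, S⁆ ≤ B := commutator_le.2 fun x hx y hy => by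
  rw [commutatorElement_def, mul_assoc, h.mul_mem_B (mul_mem hx hy) (mul_mem (inv_mem hx) (inv_mem hy)),
    h.mul_mem_B hx hy, h.mul_mem_B (inv_mem hx) (inv_mem hy), inv_mem_iff, inv_mem_iff]

theorem out₁ {f : G} (hf : f ∈ S) (hB : f ∉ B) : cj(f, R₁) = R₂ ∧ f * c₁ * f⁻¹ = c₂ := by
  have a := (h.mem f hf).resolve_left hB
  rw [h.eq_mul f]
  generalize f * w = b at a
  exact ⟨by rw [cj_mul, h.wR, cj_of_mem_normalizer (h.dp.norm₂ a)], by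
    rw [show b * w * c₁ * (b * w)⁻¹ = b * (w * c₁ * w⁻¹) * b⁻¹ by group, h.wc,
      conj_eq_of_comm (h.c₂_cen b a).symm]⟩

theorem out {f : G} (hf : f ∈ S) (hB : f ∉ B) :
    cj(f, R₁) = R₂ ∧ cj(f, R₂) = R₁ ∧ f * c₁ * f⁻¹ = c₂ ∧ f * c₂ * f⁻¹ = c₁ :=
  ⟨(h.out₁ hf hB).1, (h.symm.out₁ hf hB).1, (h.out₁ hf hB).2, (h.symm.out₁ hf hB).2⟩

theorem z_cen : c₁ * c₂ ∈ 𝐂[S] := fun x hx => by
  by_cases a : x ∈ B
  · exact mul_mem h.c₁_cen h.c₂_cen x a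
  · obtain ⟨-, -, h1, h2⟩ := h.out hx a
    rw [← mul_inv_eq_iff_eq_mul, ← conj_mul, h1, h2, h.fo.comm.eq]

theorem inf_cent : S ⊓ 𝐳[c₁] = B := by
  refine le_antisymm (fun f hf => by_contra fun a => h.fo.ne ?_)
    (le_inf h.B_le fun x hx => mem_cent.2 (h.c₁_cen x hx).symm)
  exact (conj_eq_of_comm (mem_cent.1 hf.2)).symm.trans (h.out₁ hf.1 a).2

theorem four {a b : G} (ha : a = 1 ∨ a = c₁) (hb : b = 1 ∨ b = c₂) :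
    a * b = 1 ∨ a * b = c₁ ∨ a * b = c₂ ∨ a * b = c₁ * c₂ := by
  rcases ha with rfl | rfl <;> rcases hb with rfl | rfl <;> simp

theorem cen_inv {x : G} (hx : x ∈ B) (hc : x ∈ 𝐂[B]) (h2 : x * x = 1) :
    x = 1 ∨ x = c₁ ∨ x = c₂ ∨ x = c₁ * c₂ := by
  obtain ⟨a, ha, b, hb, rfl⟩ := h.dp.mem_iff.1 hx
  obtain ⟨h1, h2⟩ := (h.dp.sq_iff ha hb).1 h2
  rw [h.cen_eq] at hc
  exact h.four (h.ra₁.cen_inv a ha ((h.dp.mem_cen ha hb).1 hc.1) h1) (h.ra₂.cen_inv b hb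
    ((h.dp.symm.mem_cen hb ha).1 ((h.comm a ha b hb).eq ▸ hc.2)) h2)

theorem der_inv {x : G} (hx : x ∈ ⁅B, B⁆) (h2 : x * x = 1) :
    x = 1 ∨ x = c₁ ∨ x = c₂ ∨ x = c₁ * c₂ := by
  obtain ⟨a, ha, b, hb, rfl⟩ := h.dp.mem_der hx
  obtain ⟨h1, h2⟩ := (h.dp.sq_iff (commutator_le_self' _ ha) (commutator_le_self' _ hb)).1 h2
  exact h.four (h.ra₁.der_inv a ha h1) (h.ra₂.der_inv b hb h2)

theorem L0 {f a b : G} (hf : f ∈ S) (hB : f ∉ B) (ha : a ∈ R₁) (hb : b ∈ R₂)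
    (hc : Commute f (a * b)) : b = f * a * f⁻¹ := by
  obtain ⟨h1, h2, -⟩ := h.out hf hB
  have h3 : f * a * f⁻¹ ∈ R₂ := h1 ▸ conj_mem_cj f ha
  have h4 : f * b * f⁻¹ ∈ R₁ := h2 ▸ conj_mem_cj f hb
  exact (h.dp.uniq ha hb h4 h3 (by rw [(h.comm _ h4 _ h3).eq, conj_mul, conj_eq_of_comm hc.symm])).2

theorem card_le_aux {E : Subgroup G} (hE : E ≤ B) (h2 : ∀ a ∈ E, a * a = 1) :
    Nat.card E ≤ Nat.card (R₂ ⊓ E : Subgroup G) * 4 := by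
  obtain ⟨F, hF, e, h1⟩ := proj h.dp hE
  rw [← e]
  refine Nat.mul_le_mul_left _ (h.ra₁.card_le_four hF fun a ha => ?_)
  obtain ⟨b, hb, h3⟩ := h1 a ha
  exact ((h.dp.sq_iff (hF ha) hb).1 (h2 _ h3)).1

theorem L1 {E : Subgroup G} (hE : E ≤ B) (h2 : ∀ a ∈ E, a * a = 1) (h8 : 8 ≤ Nat.card E) {f : G}
    (hf : f ∈ S) (hc : f ∈ 𝐂[E]) : f ∈ B := by
  by_contra a
  have h1 := h.card_le_aux hE h2
  rw [show R₂ ⊓ E = ⊥ from le_bot_iff.1 fun x hx => by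
    simpa using h.L0 hf a (one_mem _) hx.1 (by rw [one_mul]; exact (hc x hx.2).symm), card_bot] at h1
  omega

theorem L1' {E : Subgroup G} (hE : E ≤ S) (h2 : ∀ a ∈ E, a * a = 1) (h16 : 16 ≤ Nat.card E) :
    E ≤ B := fun f hf => by
  refine h.L1 (E := B ⊓ E) inf_le_left (fun a ha => h2 a ha.2) ?_ (hE hf)
    fun a ha => comm_of_sq h2 ha.2 hf
  have h1 := Grp.card_inf_mul_relIndex' B E
  have h3 := relIndex_le_of_le_right (H := B) hE (by rw [h.relIndex]; decide)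
  rw [h.relIndex] at h3
  have := Nat.mul_le_mul_left (Nat.card (B ⊓ E : Subgroup G)) h3
  omega

theorem card_le {E : Subgroup G} (hE : E ≤ B) (h2 : ∀ a ∈ E, a * a = 1) : Nat.card E ≤ 16 := by
  have h1 := h.card_le_aux hE h2
  have := h.ra₂.card_le_four (E := R₂ ⊓ E) inf_le_left fun a ha => h2 a ha.2
  omega

/-- `⟨c₁, a⟩ × ⟨c₂, b⟩` -/
theorem exists_E16 {a b : G} (ha : a ∈ R₁) (hb : b ∈ R₂) (h1 : a * a = 1) (h2 : b * b = 1)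
    (h3 : a ∉ 𝐂[R₁]) (h4 : b ∉ 𝐂[R₂]) : AA c₁ a c₂ b ≤ B ∧ (∀ x ∈ AA c₁ a c₂ b, x * x = 1) ∧
      Nat.card (AA c₁ a c₂ b) = 16 ∧ ∀ x ∈ AA c₁ a c₂ b, ∃ x₁ x₂,
        (x₁ = 1 ∨ x₁ = c₁ ∨ x₁ = a ∨ x₁ = a * c₁) ∧ (x₂ = 1 ∨ x₂ = c₂ ∨ x₂ = b ∨ x₂ = b * c₂) ∧
        x = x₁ * x₂ := by
  have f1 := fo_of h.ra₁ ha h1 h3
  have f2 := fo_of h.ra₂ hb h2 h4
  have l1 := VV_le h.ra₁.c_mem ha
  have l2 := VV_le h.ra₂.c_mem hb
  have d := dp_sup h.dp l1 l2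
  rw [AA_eq]
  refine ⟨h.B_eq ▸ sup_le_sup l1 l2, fun x hx => ?_, by rw [d.card, card_VV f1, card_VV f2],
    fun x hx => ?_⟩ <;> obtain ⟨u, hu, v, hv, rfl⟩ := d.mem_iff.1 hx
  · exact (d.sq_iff hu hv).2 ⟨sq_VV f1 hu, sq_VV f2 hv⟩
  · exact ⟨u, v, mem_VV f1 hu, mem_VV f2 hv, rfl⟩

theorem cj_le {b g : G} (hb : b ∈ R₂) (h2 : b * b = 1) (h4 : b ∉ 𝐂[R₂])
    (hg : cj(g, B ⊓ 𝐳[b]) ≤ S) : cj(g, R₁) ≤ B := by
  obtain ⟨a1, a2, a3, -⟩ := h.exists_E16 h.ra₁.e_mem hb h.ra₁.ee h2 h.ra₁.e_not_cen h4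
  have sq : ∀ {E : Subgroup G}, E ≤ AA c₁ e₁ c₂ b → ∀ x ∈ cj(g, E), x * x = 1 := by
    rintro E hE _ ⟨x, hx, rfl⟩
    rw [← map_mul, a2 x (hE hx), map_one]
  have h1 : cj(g, AA c₁ e₁ c₂ b) ≤ B := h.L1' ((cj_mono g (le_inf a1 fun x hx => mem_cent.2
    (comm_of_sq a2 (subset_closure (by simp)) hx))).trans hg) (sq le_rfl) (by rw [card_cj, a3])
  have l1 : zpowers c₁ ≤ R₁ := zpowers_le.2 h.ra₁.c_mem
  have l2 := VV_le h.ra₂.c_mem hb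
  have l3 : zpowers c₁ ⊔ VV c₂ b ≤ AA c₁ e₁ c₂ b :=
    AA_eq c₁ e₁ c₂ b ▸ sup_le_sup_right (zpowers_le.2 (subset_closure (by simp))) _
  intro f hf
  refine h.L1 ((cj_mono g l3).trans h1) (sq l3) (by
    rw [card_cj, (dp_sup h.dp l1 l2).card, Nat.card_zpowers, h.fo.l, card_VV (fo_of h.ra₂ hb h2 h4)])
    (hg (cj_mono g (le_inf h.dp.le₁ fun x hx => mem_cent.2 (h.comm x hx b hb).symm) hf)) ?_
  rw [centralizer_cj, centralizer_sup, centralizer_zpowers]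
  exact cj_mono g (le_inf (fun x hx => mem_cent.2 (h.ra₁.c_cen x hx).symm)
    (h.le_cen.trans (centralizer_anti l2))) hf

/-- `B` is weakly closed -/
theorem B_wc {g : G} (hg : cj(g, B) ≤ S) : g ∈ 𝐍[B] := by
  refine mem_normalizer_of_cj_le ((congrArg _ h.B_eq).trans_le ((cj_sup _ _ _).trans_le (sup_le ?_ ?_)))
  · exact h.cj_le h.ra₂.e_mem h.ra₂.ee h.ra₂.e_not_cen ((cj_mono g inf_le_left).trans hg)
  · exact h.symm.cj_le h.ra₁.e_mem h.ra₁.ee h.ra₁.e_not_cen ((cj_mono g inf_le_left).trans hg)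

theorem conj_w {f : G} (hf : f ∈ S) (hB : f ∉ B) (h2 : f * f = 1) : ∃ a ∈ R₁, a * w * a⁻¹ = f := by
  obtain ⟨a, ha, b, hb, e⟩ := h.dp.mem_iff.1 ((h.mem f hf).resolve_left hB)
  obtain rfl : f = a * b * w := e ▸ h.eq_mul f
  have h3 : w * a * w⁻¹ ∈ R₂ := h.wR ▸ conj_mem_cj w ha
  have h4 : w * b * w⁻¹ ∈ R₁ := h.symm.wR ▸ conj_mem_cj w hb
  have h5 := (h.dp.uniq (mul_mem ha h4) (mul_mem hb h3) (one_mem _) (one_mem _) (by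
    rw [mul_assoc, (h.comm _ h4 _ (mul_mem hb h3)).eq, one_mul, ← h2,
      show a * b * w * (a * b * w) = a * (b * (w * a * w⁻¹) * (w * b * w⁻¹)) * (w * w) by group, h.ww,
      mul_one])).2
  exact ⟨a, ha, by rw [eq_inv_of_mul_eq_one_left h5]; group⟩

theorem cen₁ {X : Subgroup G} (hX : X ≤ B) {a b : G} (ha : a ∈ R₁) (hb : b ∈ R₂)
    (hx : a * b ∈ ⁅X, X⁆) (h1 : a ≠ 1) : B ⊓ 𝐂[X] ≤ 𝐂[R₁] := fun y hy => by
  obtain ⟨a₁, p1, b₁, q1, a₂, p2, b₂, q2, x1, x2, n⟩ := h.dp.exists_noncomm hX ha hb hx h1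
  obtain ⟨u, hu, v, hv, rfl⟩ := h.dp.mem_iff.1 hy.1
  exact (h.dp.mem_cen hu hv).2 (h.ra₁.ca u hu a₁ p1 a₂ p2
    ((h.dp.commute_iff hu hv p1 q1).1 (hy.2 _ x1).symm).1
    ((h.dp.commute_iff hu hv p2 q2).1 (hy.2 _ x2).symm).1 n)

theorem not_le_cen : ¬ R₂ ≤ 𝐂[B] := fun a => h.ra₂.e_not_cen (h.cen_eq.le (a h.ra₂.e_mem)).2

theorem c_mem_cj (g : G) : g * c₁ * g⁻¹ ∈ ⁅cj(g, R₁), cj(g, R₁)⁆ :=
  commutator_cj g R₁ R₁ ▸ conj_mem_cj g h.ra₁.c_mem_der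

theorem stepA (g : G) : g * c₁ * g⁻¹ ≠ c₁ * c₂ := fun e => by
  have l : S ≤ 𝐳[c₁ * c₂] := fun x hx => mem_cent.2 (h.z_cen x hx).symm
  obtain ⟨g, -, e, h1⟩ := Lyons.extremal (P := S) (L := ⊤) (by
    rw [inf_of_le_left l]; exact h.syl.mono (le_inf le_top l) le_top) trivial e h.two le_top
    (h.inf_cent.ge.trans inf_le_right)
  have n := h.B_wc h1
  have X := cj_le_of_mem_normalizer h.dp.le₁ n
  have d := e ▸ h.c_mem_cj g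
  refine h.not_le_cen (cj_le_cj_iff (g := g) |>.1 ?_)
  rw [← centralizer_cj, cj_of_mem_normalizer n, h.cen_eq]
  refine le_trans (le_inf (cj_le_of_mem_normalizer h.dp.le₂ n) ?_)
    (le_inf (h.cen₁ X h.ra₁.c_mem h.ra₂.c_mem d h.ra₁.c_ne)
      (h.symm.cen₁ X h.ra₂.c_mem h.ra₁.c_mem (h.fo.comm.eq ▸ d) h.ra₂.c_ne))
  rw [centralizer_cj]
  exact cj_mono g h.symm.le_cen

theorem conj_c {g : G} (hg : g ∈ 𝐍[B]) : g * c₁ * g⁻¹ = c₁ ∨ g * c₁ * g⁻¹ = c₂ := by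
  rcases h.cen_inv (conj_mem_of_mem_normalizer hg h.c₁_mem) (conj_mem_of_mem_normalizer
    (normalizer_le_normalizer_centralizer B hg) h.c₁_cen) (by rw [conj_mul, h.ra₁.cc]; group)
    with e | e | e | e
  exacts [absurd (by simpa using e) h.ra₁.c_ne, .inl e, .inr e, absurd e (h.stepA g)]

theorem sylB : IsSyl 2 B 𝐳[c₁] := by
  refine ⟨h.inf_cent.ge.trans inf_le_right, h.two, fun R hR h1 h2 => ?_⟩
  obtain ⟨g, -, h3⟩ := h.syl.exists_cj_le hR le_top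
  have n := h.B_wc ((cj_mono g h1).trans h3)
  have h4 := cj_mono g h2
  rw [← centralizer_singleton_conj] at h4
  rw [← cj_le_cj_iff (g := g), cj_of_mem_normalizer n]
  rcases h.conj_c n with e | e <;> rw [e] at h4
  exacts [(le_inf h3 h4).trans h.inf_cent.le, (le_inf h3 h4).trans h.symm.inf_cent.le]

theorem sylB₀ : IsSyl 2 B (𝐳[c₁] ⊓ 𝐳[c₂]) :=
  h.sylB.mono (le_inf h.sylB.le h.symm.sylB.le) inf_le_left

theorem cen_cj {g : G} (hg : g ∈ 𝐳[c₁]) (X : cj(g, R₁) ≤ B) : B ⊓ 𝐂[cj(g, R₁)] ≤ 𝐂[R₁] :=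
  h.cen₁ X h.ra₁.c_mem (one_mem _) (by
    rw [mul_one]; exact conj_eq_of_comm (mem_cent.1 hg) ▸ h.c_mem_cj g) h.ra₁.c_ne

theorem E1 {x g : G} (hx : x ∈ B ⊓ 𝐂[R₁]) (hg : g ∈ 𝐳[c₁]) (hB : cj(g, B ⊓ 𝐳[x]) ≤ B) :
    g ∈ 𝐍[⁅R₁, R₁⁆] ∧ g * x * g⁻¹ ∈ B ⊓ 𝐂[R₁] := by
  have X : cj(g, R₁) ≤ B :=
    (cj_mono g (le_inf h.dp.le₁ fun a ha => mem_cent.2 (hx.2 a ha).symm)).trans hB
  have Y : cj(g, B ⊓ 𝐳[x] ⊓ 𝐂[R₁]) ≤ B ⊓ 𝐂[cj(g, R₁)] := by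
    rw [cj_inf, centralizer_cj]; exact inf_le_inf_right _ hB
  have xY : x ∈ B ⊓ 𝐳[x] ⊓ 𝐂[R₁] := ⟨⟨hx.1, mem_cent.2 rfl⟩, hx.2⟩
  refine ⟨mem_normalizer_of_cj_le fun y hy => ?_,
    (Y (conj_mem_cj g xY)).1, h.cen_cj hg X (Y (conj_mem_cj g xY))⟩
  rw [← commutator_cj] at hy
  obtain ⟨a, ha, b, hb, rfl⟩ := h.dp.mem_der (commutator_mono X X hy)
  by_cases h1 : b = 1
  · rwa [h1, mul_one]
  have h2 := h.symm.cen₁ X (commutator_le_self' _ hb) (commutator_le_self' _ ha)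
    ((h.comm _ (commutator_le_self' _ ha) _ (commutator_le_self' _ hb)).eq ▸ hy) h1
  have h3 : B ⊓ 𝐂[B] = B ⊓ 𝐳[x] ⊓ 𝐂[R₁] := eq_of_le_of_card_ge
    (fun u hu => ⟨⟨hu.1, mem_cent.2 (hu.2 x hx.1)⟩, (h.cen_eq.le hu.2).1⟩) (by
      rw [← card_cj g]
      exact card_le_of_le (Y.trans (le_inf inf_le_left (h.cen_eq ▸ le_inf (h.cen_cj hg X) h2))))
  exact absurd (fun u hu => (h3.ge ⟨⟨h.dp.le₂ hu, mem_cent.2 ((h3.ge xY).2 u (h.dp.le₂ hu)).symm⟩,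
    h.symm.le_cen hu⟩).2) h.not_le_cen

theorem ctl {x g : G} (hx : x ∈ B ⊓ 𝐂[R₁]) (hg : g ∈ 𝐳[c₁]) (hx' : g * x * g⁻¹ ∈ B ⊓ 𝐂[R₁]) :
    ∃ n ∈ 𝐳[c₁] ⊓ 𝐍[⁅R₁, R₁⁆], n * x * n⁻¹ = g * x * g⁻¹ := by
  obtain ⟨g₁, h1, -, h2⟩ := exists_extremal h.sylB hx.1
  obtain ⟨g₂, a1, a2, a3⟩ := Lyons.extremal h2 h1 rfl (h.two.to_le (inf_le_left : B ⊓ 𝐳[x] ≤ B))
    (inf_le_left.trans h.sylB.le) inf_le_right
  obtain ⟨g₃, b1, b2, b3⟩ := Lyons.extremal (x := g * x * g⁻¹) h2 (mul_mem h1 (inv_mem hg)) (by group)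
    (h.two.to_le (inf_le_left : B ⊓ 𝐳[g * x * g⁻¹] ≤ B)) (inf_le_left.trans h.sylB.le) inf_le_right
  refine ⟨g₃⁻¹ * g₂, mul_mem (inv_mem ⟨b1, (h.E1 hx' b1 b3).1⟩) ⟨a1, (h.E1 hx a1 a3).1⟩, ?_⟩
  rw [show g₃⁻¹ * g₂ * x * (g₃⁻¹ * g₂)⁻¹ = g₃⁻¹ * (g₂ * x * g₂⁻¹) * g₃ by group, a2, ← b2]
  group

theorem autZ {g : G} (h1 : g ∈ 𝐳[c₁]) (h2 : g ∈ 𝐳[c₂]) (hB : g ∈ 𝐍[B]) (ho : Odd (orderOf g)) {u : G}
    (hu : u ∈ B ⊓ 𝐂[B]) : g * u * g⁻¹ = u := by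
  obtain ⟨n, hn⟩ := isPGroup_iff.1 h.two u hu.1
  induction n generalizing u with
  | zero => rw [show u = 1 by simpa using hn]; group
  | succ n ih =>
    have a := ih (mul_mem hu hu) (by rw [← pow_two, ← pow_mul, ← pow_succ', hn])
    have b : g * u * g⁻¹ ∈ B ⊓ 𝐂[B] := conj_mem_of_mem_normalizer
      (le_normalizer_inf le_rfl (normalizer_le_normalizer_centralizer B) hB) hu
    have c := mul_mem (inv_mem hu) b
    refine fix_of h.two ho c.1 (by group) ?_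
    rcases h.cen_inv c.1 c.2 (by
      rw [Commute.mul_mul_mul_comm (b.2 _ (inv_mem hu.1)).symm, conj_mul, a]; group) with e | e | e | e <;>
      rw [e]
    exacts [by group, conj_eq_of_comm (mem_cent.1 h1), conj_eq_of_comm (mem_cent.1 h2),
      conj_eq_of_comm ((mem_cent.1 h1).mul_left (mem_cent.1 h2))]

theorem autB₁ {g : G} (h1 : g ∈ 𝐳[c₁]) (h2 : g ∈ 𝐳[c₂]) (hB : g ∈ 𝐍[B]) (ho : Odd (orderOf g)) :
    g ∈ 𝐂[R₁] := by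
  obtain ⟨π, hπ⟩ := h.dp.exists_proj
  let φ₀ : R₁ →* R₁ := (π.comp ((B.normalizerMonoidHom ⟨g, hB⟩).toMonoidHom.comp
    (inclusion h.dp.le₁))).codRestrict R₁ fun a => (hπ _).1
  have key : ∀ a : R₁, ∃ ζ ∈ R₂, g * ζ * g⁻¹ = ζ ∧ g * a * g⁻¹ = φ₀ a * ζ := fun a => by
    have h3 : (φ₀ a : G)⁻¹ * (g * a * g⁻¹) ∈ R₂ := (hπ _).2
    have h4 : g * a * g⁻¹ ∈ 𝐂[R₂] := h.symm.cen_cj h2 (cj_le_of_mem_normalizer h.dp.le₂ hB)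
      ⟨conj_mem_of_mem_normalizer hB (h.dp.le₁ a.2), by
        rw [centralizer_cj]; exact conj_mem_cj g (h.le_cen a.2)⟩
    exact ⟨_, h3, h.autZ h1 h2 hB ho ⟨h.dp.le₂ h3, h.cen_eq.ge ⟨h.symm.le_cen h3,
      (𝐂[R₂]).mul_mem (inv_mem (h.le_cen (φ₀ a).2)) h4⟩⟩, by group⟩
  let φ : MulAut R₁ := MulEquiv.ofBijective φ₀ (Finite.injective_iff_bijective.1
    ((injective_iff_map_eq_one _).2 fun a ha => by
      obtain ⟨ζ, a1, a2, a3⟩ := key a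
      rw [ha, coe_one, one_mul, ← a2, mul_left_inj, mul_right_inj] at a3
      exact Subtype.ext (h.disj.le ⟨a.2, a3 ▸ a1⟩)))
  have it : ∀ (n : ℕ) (a : R₁), ∃ ζ ∈ R₂, g * ζ * g⁻¹ = ζ ∧ g ^ n * a * (g ^ n)⁻¹ = (φ ^ n) a * ζ :=
    fun n a => by
      induction n with
      | zero => exact ⟨1, one_mem _, by group, by simp⟩
      | succ n ih =>
        obtain ⟨ζ, a1, a2, a3⟩ := ih
        obtain ⟨η, b1, b2, b3⟩ := key ((φ ^ n) a)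
        refine ⟨η * ζ, mul_mem b1 a1, by rw [← conj_mul, a2, b2], ?_⟩
        rw [pow_succ', show g * g ^ n * a * (g * g ^ n)⁻¹ = g * (g ^ n * a * (g ^ n)⁻¹) * g⁻¹ by group,
          a3, ← conj_mul, a2, b3, pow_succ', mul_assoc]
        rfl
  have e := h.ra₁.aut φ (ho.of_dvd_nat (orderOf_dvd_of_pow_eq_one (MulEquiv.ext fun a => by
    obtain ⟨ζ, a1, -, a3⟩ := it (orderOf g) a
    rw [pow_orderOf_eq_one, one_mul, inv_one] at a3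
    exact Subtype.ext (h.dp.uniq a.2 (one_mem _) (Subtype.prop _) a1 a3).1.symm)))
  intro a ha
  obtain ⟨ζ, a1, a2, a3⟩ := it 1 ⟨a, ha⟩
  rw [pow_one, pow_one, e] at a3
  exact comm_of_conj_eq (fix_of h.ra₂.two ho a1 a3 a2)

theorem autB {g : G} (hg : g ∈ 𝐳[c₁]) (hB : g ∈ 𝐍[B]) (ho : Odd (orderOf g)) : g ∈ 𝐂[B] := by
  have h2 : g ∈ 𝐳[c₂] := mem_cent.2 (comm_of_conj_eq ((h.symm.conj_c hB).resolve_right fun e => by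
    rw [← conj_eq_of_comm (mem_cent.1 hg), mul_left_inj, mul_right_inj] at e
    exact h.fo.ne e.symm))
  exact h.cen_eq.ge ⟨h.autB₁ hg h2 hB ho, h.symm.autB₁ h2 hg hB ho⟩

/-- the shape of the conjugates of `c₂` -/
theorem shape {g a b : G} (hg : g ∈ 𝐳[c₁]) (ha : a ∈ R₁) (hb : b ∈ R₂)
    (e : g * c₂ * g⁻¹ = a * b) : a = 1 ∨ a = c₁ := by
  have h1 := ((h.dp.sq_iff ha hb).1 (by rw [← e, conj_mul, h.ra₂.cc]; group)).1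
  refine h.ra₁.cen_inv a ha (by_contra fun c => ?_) h1
  obtain ⟨r, hr, h2⟩ := h.ra₁.flip a ha c (h1 ▸ one_mem _)
  refine h.symm.stepA (g⁻¹ * r * g) ?_
  rw [show g⁻¹ * r * g * c₂ * (g⁻¹ * r * g)⁻¹ = g⁻¹ * (r * (g * c₂ * g⁻¹) * r⁻¹) * g by group, e,
    ← conj_mul, h2, conj_eq_of_comm (h.comm r hr b hb).symm, mul_assoc a,
    (h.comm _ h.ra₁.c_mem b hb).eq, ← mul_assoc a, ← e]
  conv_lhs => rw [← conj_eq_of_comm (mem_cent.1 hg)]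
  group

end Su

end Cfsg.Agent.L5T
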