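import Mathlib
import Cfsg.Agent.L5T.Defs2
import Cfsg.Agent.L5T.TC3
import Cfsg.Agent.CT.UFour3
import Cfsg.Agent.Class.Asch.FastQ
import Cfsg.Agent.Class.FieldTransport

/-! S0511: Phan's theorem for `SU₄(3)` up to a central 3-group. -/

set_option autoImplicit false
set_option linter.unusedSectionVars false

namespace Cfsg.Agent.L5T

open Subgroup Cfsg.Agent.PLocal.Amb Cfsg.Agent.Lyons
open CT.U Cfsg.Agent.Class Cfsg.Agent.Class.U Cfsg.Agent.Class.Asch.FQ Comp.BN Matrix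

namespace T3

section
variable {F : Type*} [Field F] {q : ℕ} [UF F q]

theorem q_ne (F : Type*) [Field F] (q : ℕ) [UF F q] : q ≠ 0 := by
  rintro rfl
  have := UF.finite (F := F) 0
  have h := UF.card_eq (F := F) (q := 0)
  exact (Nat.card_pos (α := F)).ne' h

theorem val_aux {b : Fin 2 → Fin 4 → F} (f : Fin 2 → Fin 4) (h : ∀ a, b a = ee F (f a))
    (M : Matrix (Fin 2) (Fin 2) F) {N : Matrix (Fin 4) (Fin 4) F}
    (hN : ∀ i j, (if i = j then 1 else 0) + ∑ a, (if i = f a then 1 else 0) *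
      ∑ c, (M a c - if a = c then 1 else 0) * (if j = f c then 1 else 0) ^ q = N i j) :
    embMat q b M = N := by
  ext i j
  rw [← hN]
  simp only [embMat, Matrix.add_apply, Matrix.mul_apply, Matrix.one_apply, transpose_apply, of_apply,
    Matrix.sub_apply, h, Pi.single_apply]

theorem val0 (g : SU 2 F q) : (iL (iL g)).1.1 =
    !![g.1.1 0 0, g.1.1 0 1, 0, 0; g.1.1 1 0, g.1.1 1 1, 0, 0; 0, 0, 1, 0; 0, 0, 0, 1] := by
  have := q_ne F q
  rw [show iL (iL g) = _ from emb_blk (on_ee (Fin.castSucc_injective _)) (Fin.castSucc_injective _) g]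
  refine val_aux ![0, 1] (fun a => by fin_cases a <;> rfl) _ fun i j => ?_
  fin_cases i <;> fin_cases j <;> simp [Fin.sum_univ_two, this]

theorem val1 (g : SU 2 F q) : (iL (iR g)).1.1 =
    !![1, 0, 0, 0; 0, g.1.1 0 0, g.1.1 0 1, 0; 0, g.1.1 1 0, g.1.1 1 1, 0; 0, 0, 0, 1] := by
  have := q_ne F q
  rw [show iL (iR g) = _ from emb_blk (on_ee (Fin.castSucc_injective _)) (Fin.succ_injective _) g]
  refine val_aux ![1, 2] (fun a => by fin_cases a <;> rfl) _ fun i j => ?_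
  fin_cases i <;> fin_cases j <;> simp [Fin.sum_univ_two, this]

theorem val2 (g : SU 2 F q) : (iR (iR g)).1.1 =
    !![1, 0, 0, 0; 0, 1, 0, 0; 0, 0, g.1.1 0 0, g.1.1 0 1; 0, 0, g.1.1 1 0, g.1.1 1 1] := by
  have := q_ne F q
  rw [show iR (iR g) = _ from emb_blk (on_ee (Fin.succ_injective _)) (Fin.succ_injective _) g]
  refine val_aux ![2, 3] (fun a => by fin_cases a <;> rfl) _ fun i j => ?_
  fin_cases i <;> fin_cases j <;> simp [Fin.sum_univ_two, this]

theorem sup_four (s : SU 4 F q) : s ∈ (iL : SU 3 F q →* _).range ⊔ iR.range := by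
  have orth : ∀ i j : Fin 4, i ≠ j → hermForm 4 F q (ee F i) (ee F j) = 0 := on_single.orth
  have D : Data (MonoidHom.id (SU 4 F q)) iL.range iR.range (ee F 0) (ee F (Fin.last 3)) (ee F 2) :=
    { act := fun _ _ => rfl
      four := le_rfl
      on := on3 (on_single.unit _) (on_single.unit _) (on_single.unit _)
        (orth _ _ (by decide)) (orth _ _ (by decide)) (orth _ _ (by decide))
      A_fix := fun _ => mem_range_iL.1
      A_ex := fun s hs => ⟨s, mem_range_iL.2 hs, rfl⟩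
      B_fix := fun _ => mem_range_iR.1
      B_ex := fun s hs => ⟨s, mem_range_iR.2 hs, rfl⟩
      compat := fun _ _ => mem_range_iL.2
      comm := fun a ha b hb h1 h2 => commute_of_fix (fun i => i = 2 ∨ i = Fin.last 3)
        (by rintro _ (rfl | rfl); exacts [h1, mem_range_iL.1 ha]) fun i hi =>
          h2 _ (orth _ _ fun e => hi (Or.inr e)) (orth _ _ fun e => hi (Or.inl e)) }
  obtain ⟨g, hg, rfl⟩ := D.surj s
  exact hg

end

/-- codes of two elements of order 3 of `SU₂(3)` and their inverses -/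
def c2 (k : ℕ) : ℕ := [5548, 3562, 5746, 3364].getD k 730

/-- their images in the three blocks of `SU₄(3)` -/
noncomputable def c4 (k : ℕ) : ℕ := nth 205894618938100 [205894619325238, 205894619161252,
  205894619338396, 205894619148094, 205917479049862, 205907795840548, 205918256016604,
  205907018873806, 1555761358372438, 983977531590052, 1601640467520796, 938098422441694] k

noncomputable def evC (W : List ℕ) : ℕ :=
  List.rec (motive := fun _ => ℕ) (P9.mone 4)
    (fun k _ ih => force ih fun m => force (c4 k) fun c => P9.mmul 4 c m) W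

def W24 : List (List ℕ) := [[], [0], [1], [2], [3], [0, 2], [0, 3], [1, 2], [1, 3], [2, 0], [2, 1],
  [3, 0], [3, 1], [0, 2, 0], [0, 2, 1], [0, 3, 0], [0, 3, 1], [1, 2, 0], [1, 2, 1], [1, 3, 0],
  [1, 3, 1], [2, 1, 2], [3, 0, 3], [0, 3, 0, 3]]

theorem chk_rel : allL (fun W => Nat.beq (evC W) (P9.mone 4)) P2.rels = true := by decide +kernel

theorem chk_inv : allN (fun k => Nat.beq (evC [P.I k, k]) (P9.mone 4)) 12 = true := by
  decide +kernel

theorem chk_24 : (W24.map evC).Nodup ∧ ∀ W ∈ W24, evC W < P9.N ^ (4 * 4) ∧ ∀ k ∈ W, k < 4 := by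
  decide +kernel

theorem chk_R : (∀ W ∈ R0, ∀ k ∈ W, k < 8) ∧ (∀ W ∈ R1, ∀ k ∈ W, 4 ≤ k) ∧
    ∀ k < 12, (k < 8 ∧ P.I k < 8) ∨ (4 ≤ k ∧ 4 ≤ P.I k) := by decide +kernel

variable {F : Type*} [Field F] [UF F 3] (e : GF9 ≃+* F)

/-- the generators of `SU₂(3)` -/
noncomputable def u (k : ℕ) : SU 2 F 3 :=
  if h : k < 4 then suCongr 2 3 e (mkSU (P9.decM 2 0 2 (c2 k))
    (ok9.pres (by revert k; decide +kernel)) (by rw [det_fin_two]; revert k; decide +kernel)) else 1

theorem u_val {k : ℕ} (h : k < 4) (i j : Fin 2) :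
    (u e k).1.1 i j = e (P9.decM 2 0 2 (c2 k) i j) := by
  rw [u, dif_pos h]; rfl

/-- the generators of `SU₃(3)` -/
noncomputable def g (k : ℕ) : SU 3 F 3 := if k < 4 then iL (u e k) else iR (u e (k - 4))

variable {G : Type*} [Group G] (θ₀ θ₁ : SU 3 F 3 →* G)

/-- the generators of the graph -/
noncomputable def x (k : ℕ) : SU 4 F 3 × G :=
  if k < 8 then iL.prod θ₀ (g e k) else iR.prod θ₁ (g e (k - 4))

theorem x_val (k : ℕ) : (x e θ₀ θ₁ k).1.1.1 = (P9.decM 2 0 4 (c4 k)).map e := by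
  have key : ∀ k < 4,
      P9.decM 2 0 4 (c4 k) = !![P9.decM 2 0 2 (c2 k) 0 0, P9.decM 2 0 2 (c2 k) 0 1, 0, 0;
        P9.decM 2 0 2 (c2 k) 1 0, P9.decM 2 0 2 (c2 k) 1 1, 0, 0; 0, 0, 1, 0; 0, 0, 0, 1] ∧
      P9.decM 2 0 4 (c4 (k + 4)) = !![1, 0, 0, 0; 0, P9.decM 2 0 2 (c2 k) 0 0,
        P9.decM 2 0 2 (c2 k) 0 1, 0; 0, P9.decM 2 0 2 (c2 k) 1 0, P9.decM 2 0 2 (c2 k) 1 1, 0;
        0, 0, 0, 1] ∧
      P9.decM 2 0 4 (c4 (k + 8)) = !![1, 0, 0, 0; 0, 1, 0, 0; 0, 0, P9.decM 2 0 2 (c2 k) 0 0,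
        P9.decM 2 0 2 (c2 k) 0 1; 0, 0, P9.decM 2 0 2 (c2 k) 1 0, P9.decM 2 0 2 (c2 k) 1 1] := by
    decide +kernel
  obtain h | ⟨j, h, rfl⟩ | ⟨j, h, rfl⟩ | ⟨j, rfl⟩ :
      k < 4 ∨ (∃ j < 4, k = j + 4) ∨ (∃ j < 4, k = j + 8) ∨ ∃ j, k = j + 12 := by
    rcases (by omega : k < 4 ∨ (4 ≤ k ∧ k < 8) ∨ (8 ≤ k ∧ k < 12) ∨ 12 ≤ k) with h | h | h | h
    exacts [Or.inl h, Or.inr (Or.inl ⟨k - 4, by omega⟩), Or.inr (Or.inr (Or.inl ⟨k - 8, by omega⟩)),
      Or.inr (Or.inr (Or.inr ⟨k - 12, by omega⟩))]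
  · rw [x, if_pos (by omega), g, if_pos h, (key k h).1]
    refine (val0 _).trans ?_
    ext a b; fin_cases a <;> fin_cases b <;> simp [u_val e h]
  · rw [x, if_pos (by omega), g, if_neg (by omega), (key j h).2.1, Nat.add_sub_cancel]
    refine (val1 _).trans ?_
    ext a b; fin_cases a <;> fin_cases b <;> simp [u_val e h]
  · rw [x, if_neg (by omega), g, if_neg (by omega), (key j h).2.2, show j + 8 - 4 - 4 = j by omega]
    refine (val2 _).trans ?_
    ext a b; fin_cases a <;> fin_cases b <;> simp [u_val e h]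
  · rw [x, if_neg (by omega), g, if_neg (by omega), u, dif_neg (by omega), map_one, map_one,
      show c4 (j + 12) = 205894618938100 from rfl,
      show 205894618938100 = P9.mone 4 by decide +kernel, Par.decM_mone (P := P9)]
    simp

theorem ev_val (W : List ℕ) : (ev (x e θ₀ θ₁) W).1.1.1 = (P9.decM 2 0 4 (evC W)).map e := by
  induction W with
  | nil => rw [show evC [] = P9.mone 4 from rfl, Par.decM_mone (P := P9)]; simp
  | cons k W ih =>
    rw [show evC (k :: W) = force (evC W) fun m => force (c4 k) fun c => P9.mmul 4 c m from rfl,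
      force_eq, force_eq, ok9.toOK.decM_mmul, Matrix.map_mul, ← ih, ← x_val e θ₀ θ₁, ev_cons]
    rfl

theorem ev_fst {W : List ℕ} (h : Nat.beq (evC W) (P9.mone 4) = true) :
    (ev (x e θ₀ θ₁) W).1 = 1 := by
  refine Subtype.ext (Subtype.ext ?_)
  rw [ev_val, Nat.eq_of_beq_eq_true h, Par.decM_mone (P := P9)]
  simp

theorem ev_congr {H : Type*} [Group H] {y y' : ℕ → H} {W : List ℕ} (h : ∀ k ∈ W, y k = y' k) :
    ev y W = ev y' W := by
  induction W with
  | nil => rfl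
  | cons k W ih =>
    rw [ev_cons, ev_cons, h k List.mem_cons_self, ih fun j hj => h j (List.mem_cons_of_mem _ hj)]

theorem ev_mem' {H : Type*} [Group H] {y : ℕ → H} {K : Subgroup H} {W : List ℕ}
    (h : ∀ k ∈ W, y k ∈ K) : ev y W ∈ K := by
  induction W with
  | nil => exact one_mem _
  | cons k W ih =>
    exact mul_mem (h k List.mem_cons_self) (ih fun j hj => h j (List.mem_cons_of_mem _ hj))

theorem gen_u : gen (u e) = ⊤ := by
  have := finite_SU (n := 2) (F := F) (q := 3)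
  have h1 : ∀ W ∈ W24, (iL (iL (ev (u e) W))).1.1 = (P9.decM 2 0 4 (evC W)).map e := fun W hW => by
    have h := map_ev (MonoidHom.fst _ _) (x e (1 : SU 3 F 3 →* Unit) 1) W
    rw [MonoidHom.coe_fst] at h
    rw [← ev_val e (1 : SU 3 F 3 →* Unit) 1, map_ev, map_ev, h]
    refine congrArg (fun s : SU 4 F 3 => s.1.1) (ev_congr fun k hk => ?_)
    have := (chk_24.2 W hW).2 k hk
    rw [x, if_pos (by omega), g, if_pos this]; rfl
  have h2 : (W24.map fun W => (⟨ev (u e) W, ev_mem_gen _ W⟩ : gen (u e))).Nodup := by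
    refine (List.Nodup.of_map _ chk_24.1).map_on fun V hV W hW h => ?_
    refine List.inj_on_of_nodup_map chk_24.1 hV hW (Par.decM_inj (α := 2) (β := 0)
      (chk_24.2 V hV).1 (chk_24.2 W hW).1 (Matrix.map_injective e.injective ?_))
    change (P9.decM 2 0 4 (evC V)).map e = (P9.decM 2 0 4 (evC W)).map e
    rw [← h1 V hV, ← h1 W hW, show ev (u e) V = ev (u e) W from congrArg Subtype.val h]
  have := Fintype.ofFinite (gen (u e))
  have h3 := h2.length_le_card
  refine eq_top_of_le_card _ ?_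
  rw [card_SU_two, Nat.card_eq_fintype_card]
  exact h3

variable {θ₀ θ₁} (coh : ∀ x, θ₀ (iR x) = θ₁ (iL x))
include coh

theorem x_right {k : ℕ} (h : 4 ≤ k) : x e θ₀ θ₁ k = iR.prod θ₁ (g e (k - 4)) := by
  rw [x]
  split_ifs with h'
  · rw [g, g, if_neg (by omega), if_pos (by omega)]
    exact Prod.ext (iL_iR _) (coh _)
  · rfl

theorem gen_x : gen (x e θ₀ θ₁) = (iL.prod θ₀).range ⊔ (iR.prod θ₁).range := by
  refine le_antisymm (gen_le fun k => ?_) ?_
  · rw [x]
    split_ifs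
    exacts [mem_sup_left ⟨_, rfl⟩, mem_sup_right ⟨_, rfl⟩]
  have key : ∀ (Θ : SU 3 F 3 →* SU 4 F 3 × G), (∀ k < 8, Θ (g e k) ∈ gen (x e θ₀ θ₁)) →
      Θ.range ≤ gen (x e θ₀ θ₁) := fun Θ h => by
    have k2 : ∀ ι : SU 2 F 3 →* SU 3 F 3, (∀ k < 4, Θ (ι (u e k)) ∈ gen (x e θ₀ θ₁)) →
        ι.range ≤ (gen (x e θ₀ θ₁)).comap Θ := fun ι h => by
      rw [MonoidHom.range_eq_map, ← gen_u e, map_gen]
      refine gen_le fun k => ?_
      by_cases hk : k < 4
      · exact h k hk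
      · rw [u, dif_neg hk, map_one]; exact one_mem _
    rw [MonoidHom.range_eq_map, ← sup_iL_iR le_rfl, map_le_iff_le_comap]
    refine sup_le (k2 _ fun k hk => ?_) (k2 _ fun k hk => ?_)
    · simpa [g, hk] using h k (by omega)
    · simpa [g] using h (k + 4) (by omega)
  refine sup_le (key _ fun k hk => ?_) (key _ fun k _ => ?_)
  · have := mem_gen (x e θ₀ θ₁) k
    rwa [x, if_pos hk] at this
  · have := mem_gen (x e θ₀ θ₁) (k + 4)
    rwa [x_right e coh (by omega)] at this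

omit coh in
theorem eq_one_left {z : SU 4 F 3 × G} (hz : z ∈ (iL.prod θ₀).range) (h : z.1 = 1) : z = 1 := by
  obtain ⟨a, rfl⟩ := hz
  rw [iL_injective (h.trans (map_one iL).symm), map_one]

theorem ev_eq_one {W : List ℕ} (h : Nat.beq (evC W) (P9.mone 4) = true)
    (h' : (∀ k ∈ W, k < 8) ∨ ∀ k ∈ W, 4 ≤ k) : ev (x e θ₀ θ₁) W = 1 := by
  have h1 := ev_fst e θ₀ θ₁ h
  rcases h' with h' | h'
  · exact eq_one_left (ev_mem' fun k hk => ⟨_, by rw [x, if_pos (h' k hk)]⟩) h1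
  · obtain ⟨a, ha⟩ : ev (x e θ₀ θ₁) W ∈ (iR.prod θ₁).range :=
      ev_mem' fun k hk => ⟨_, (x_right e coh (h' k hk)).symm⟩
    rw [← ha] at h1 ⊢
    rw [iR_injective (h1.trans (map_one iR).symm), map_one]

theorem sat (hc : ∀ x y, Commute (θ₀ (iL x)) (θ₁ (iR y))) : Sat P (x e θ₀ θ₁) := by
  have out : ∀ k, P.inv.length ≤ k → x e θ₀ θ₁ k = 1 := fun k (hk : 12 ≤ k) => by
    rw [x, if_neg (by omega), g, if_neg (by omega), u, dif_neg (by omega), map_one, map_one]
  have hi := inv_of_lt out fun k hk => by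
    simpa using ev_eq_one e coh ((allN_eq _ _).1 chk_inv k hk) (by simpa [and_comm] using chk_R.2.2 k hk)
  refine ⟨out, hi, fun r hr => ?_⟩
  have h1 := (allL_eq _ _).1 chk_rel r (by rw [P2_rels]; exact List.mem_append_left _ hr)
  rw [P_rels, List.mem_append, List.mem_append] at hr
  rcases hr with hr | hr | hr
  · exact ev_eq_one e coh h1 (Or.inl (chk_R.1 r hr))
  · exact ev_eq_one e coh h1 (Or.inr (chk_R.2.1 r hr))
  refine Prod.ext (ev_fst e θ₀ θ₁ h1) ?_
  have key : ∀ a b, a < 4 → 8 ≤ b → (ev (x e θ₀ θ₁) [a, b, P.I a, P.I b]).2 = 1 := fun a b ha hb => by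
    have : Commute (x e θ₀ θ₁ a).2 (x e θ₀ θ₁ b).2 := by
      rw [x, x, if_pos (by omega), if_neg (by omega), g, g, if_pos ha, if_neg (by omega)]
      exact hc _ _
    simp only [ev_cons, ev_nil, eq_inv_of_mul_eq_one_left (hi _), Prod.snd_mul, Prod.snd_inv,
      mul_one, ← mul_assoc, this.eq, mul_inv_cancel_right, mul_inv_cancel]
  simp only [RC, List.mem_cons, List.not_mem_nil, or_false] at hr
  rcases hr with rfl | rfl | rfl | rfl
  exacts [key 0 8 (by omega) (by omega), key 0 10 (by omega) (by omega),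
    key 2 8 (by omega) (by omega), key 2 10 (by omega) (by omega)]

end T3

open T3

variable {G : Type*} [Group G] {F : Type*} [Field F] [Class.U.UF F 3]

theorem four3 {θ₀ θ₁ : SU 3 F 3 →* G} (coh : ∀ x, θ₀ (iR x) = θ₁ (iL x))
    (hc : ∀ x y, Commute (θ₀ (iL x)) (θ₁ (iR y)))
    (hZ : ∀ z ∈ 𝐂[θ₀.range ⊔ θ₁.range], z ^ 3 = 1 → z = 1) :
    ∃ θ : SU 4 F 3 →* G, θ.range = θ₀.range ⊔ θ₁.range ∧ (∀ x, θ (iL x) = θ₀ x) ∧
      ∀ x, θ (iR x) = θ₁ x := by
  have := UF.finite (F := F) 3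
  have := Fintype.ofFinite F
  have e : GF9 ≃+* F := (ringEquivGF9 (by rw [← Nat.card_eq_fintype_card, UF.card_eq (q := 3)]; rfl)).symm
  have S := sat e coh hc
  have hl : ∀ W ∈ [[0], [2], [4], [6]], ev (x e θ₀ θ₁) W ∈ (iL.prod θ₀).range := fun W hW =>
    ev_mem' fun k hk => ⟨_, by rw [x, if_pos (by revert k W; decide)]⟩
  have hm : ∀ W, Nat.beq (ptW A.act W 0) 0 = true → (ev (x e θ₀ θ₁) W).1 = 1 →
      ev (x e θ₀ θ₁) W = 1 := fun W h => eq_one_left (A.done.mem S hl W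
        (by rw [← A.spec.ptW]; exact Nat.eq_of_beq_eq_true h))
  have hs : (gen (x e θ₀ θ₁)).map (MonoidHom.snd _ _) = θ₀.range ⊔ θ₁.range := by
    rw [gen_x e coh, Subgroup.map_sup, ← MonoidHom.range_comp, ← MonoidHom.range_comp]; rfl
  have S2 : Sat P2 (x e θ₀ θ₁) := ⟨S.out, S.inv, fun r hr => by
    have h1 := ev_fst e θ₀ θ₁ ((allL_eq _ _).1 chk_rel r hr)
    rw [P2_rels, List.mem_append] at hr
    rcases hr with hr | hr
    · exact S.rel r hr
    refine Prod.ext h1 (hZ _ ?_ ?_)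
    · rw [← hs, map_gen]
      have key : ∀ k, Commute (ev (x e θ₀ θ₁) r) (x e θ₀ θ₁ k) := fun k => by
        by_cases hk : k < 12
        · have := hm _ ((allN_eq _ _).1 ((allL_eq _ _).1 cen r hr) k hk) (by
            simp [appendL_eq, ev_invW S.inv, h1])
          rw [appendL_eq, appendL_eq, appendL_eq, ev_append, ev_invW S.inv, mul_inv_eq_one] at this
          simpa [Commute, SemiconjBy] using this
        · rw [S.out k (not_lt.1 hk)]; exact Commute.one_right _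
      have : gen (fun k => MonoidHom.snd _ _ (x e θ₀ θ₁ k)) ≤
          centralizer {(ev (x e θ₀ θ₁) r).2} := gen_le fun k =>
        mem_centralizer_singleton_iff.2 (congrArg Prod.snd (key k).eq).symm
      exact mem_centralizer_iff.2 fun y hy => mem_centralizer_singleton_iff.1 (this hy)
    · have := hm _ ((allL_eq _ _).1 cube r hr) (by rw [ev_powW, Prod.pow_fst, h1, one_pow])
      rw [ev_powW] at this
      exact congrArg Prod.snd this⟩
  have := finite_SU (n := 3) (F := F) (q := 3)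
  have := finite_SU (n := 4) (F := F) (q := 3)
  have c3 : Nat.card (SU 3 F 3) = 6048 := by
    have h := card_SU_mul (F := F) (q := 3) (n := 3) (by omega)
    rw [card_GU] at h
    simp [Finset.prod_range_succ] at h
    omega
  have c4 : Nat.card (SU 4 F 3) = 13063680 := by
    have h := card_SU_mul (F := F) (q := 3) (n := 4) (by omega)
    rw [card_GU] at h
    simp [Finset.prod_range_succ, show ¬ Even 3 by decide] at h
    omega
  have : Finite (iL.prod θ₀).range := .of_surjective _ (iL.prod θ₀).rangeRestrict_surjective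
  obtain ⟨fin, hcard⟩ := B.done.card_le S2 hl
  have surj : ∀ s : SU 4 F 3, ∃ z ∈ gen (x e θ₀ θ₁), z.1 = s := fun s => by
    have : (iL : SU 3 F 3 →* _).range ⊔ iR.range = (gen (x e θ₀ θ₁)).map (MonoidHom.fst _ _) := by
      rw [gen_x e coh, Subgroup.map_sup, ← MonoidHom.range_comp, ← MonoidHom.range_comp]; rfl
    exact (this ▸ sup_four s :)
  have inj : Function.Injective ((MonoidHom.fst _ _).comp (gen (x e θ₀ θ₁)).subtype) := by
    refine ((Nat.bijective_iff_surjective_and_card _).2 ⟨fun s => ?_, le_antisymm ?_ ?_⟩).1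
    · obtain ⟨z, hz, rfl⟩ := surj s
      exact ⟨⟨z, hz⟩, rfl⟩
    · refine hcard.trans ?_
      rw [c4]
      exact Nat.mul_le_mul_left 2160 (c3 ▸ Nat.card_le_card_of_surjective _
        (iL.prod θ₀).rangeRestrict_surjective)
    · refine Nat.card_le_card_of_surjective ((MonoidHom.fst _ _).comp (gen (x e θ₀ θ₁)).subtype)
        fun s => ?_
      obtain ⟨z, hz, rfl⟩ := surj s
      exact ⟨⟨z, hz⟩, rfl⟩
  obtain ⟨θ, hθ⟩ := CT.exists_hom_of_graph (gen (x e θ₀ θ₁)) (fun z hz h =>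
    congrArg Subtype.val ((injective_iff_map_eq_one _).1 inj ⟨z, hz⟩ h)) surj
  have hL : ∀ a, θ (iL a) = θ₀ a := fun a =>
    hθ (iL.prod θ₀ a) (gen_x e coh ▸ mem_sup_left ⟨a, rfl⟩)
  have hR : ∀ a, θ (iR a) = θ₁ a := fun a =>
    hθ (iR.prod θ₁ a) (gen_x e coh ▸ mem_sup_right ⟨a, rfl⟩)
  refine ⟨θ, le_antisymm ?_ (sup_le ?_ ?_), hL, hR⟩
  · rintro _ ⟨s, rfl⟩
    obtain ⟨z, hz, rfl⟩ := surj s
    rw [hθ z hz, ← hs]
    exact ⟨z, hz, rfl⟩
  · rintro _ ⟨a, rfl⟩; exact ⟨_, hL a⟩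
  · rintro _ ⟨a, rfl⟩; exact ⟨_, hR a⟩

end Cfsg.Agent.L5T
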