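import Mathlib
import Cfsg.Agent.L5T.Defs2
import Cfsg.Agent.CT.URecog
import Cfsg.Agent.Class.U.Invol3

/-! S0511: standard pairs in `SU₃(q)`. -/

set_option autoImplicit false
set_option linter.unusedSectionVars false

namespace Cfsg.Agent.L5T

open Subgroup Cfsg.Agent.PLocal.Amb Cfsg.Agent.Lyons

variable {G : Type*} [Group G] [Finite G] {F : Type*} [Field F] {q : ℕ} [Class.U.UF F q]

open CT.U

namespace StdU

open Class.U
open scoped commutatorElement

variable {v w : Fin 3 → F} {s t g : SU 3 F q} {θ : SU 3 F q →* G}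

theorem two_ne (hq : Odd q) : (2 : F) ≠ 0 := fun e => by
  obtain ⟨l, k, hl, _, hk, k0⟩ := exists_prime_pow F q
  obtain rfl := (Nat.prime_dvd_prime_iff_eq hl Nat.prime_two).1
    ((CharP.cast_eq_zero_iff F l 2).1 (by exact_mod_cast e))
  exact (Nat.not_even_iff_odd.2 hq) (hk ▸ even_two.pow_of_ne_zero k0.ne')

theorem mem_cen (h2 : (2 : F) ≠ 0) (h : IsT v s) : g ∈ 𝐳[s] ↔ ∃ c : F, g • v = c • v := by
  rw [mem_centralizer_singleton_iff, ← mul_inv_eq_iff_eq_mul]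
  refine ⟨fun e => ⟨_, (h.eq_iff h2 (h.conj g)).1 e.symm⟩, fun ⟨c, e⟩ => (h.conj g).unique ?_⟩
  exact e ▸ h.smul (norm_of_eq_smul h.1 (h.conj g).1 e)

theorem tv_mem (h2 : (2 : F) ≠ 0) (h : IsT v s) (ht : Tv t w) (hv : t • v = v) :
    t ∈ ⁅𝐳[s], 𝐳[s]⁆ := by
  have e := ht.smul_eq_iff.1 hv
  obtain ⟨w0, ww, a, -, ha⟩ := ht
  obtain ⟨f, f1, f2, f3⟩ := (on1 h.1).exists_partner w0 ww
    (fun i => by fin_cases i; exact herm_comm_zero e) one_ne_zero (map_zero (conj F q))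
  have hF := Fr.mk' ww f2 (herm_comm_one f1) e (herm_comm_zero (f3 0)) h.1
  obtain ⟨l, hl⟩ := Class.U.exists_norm_eq (F := F) (q := q) (μ := -1) (by simp)
  obtain ⟨d, d1, d2⟩ := hF.exists_diag (l := l) (by rintro rfl; simp at hl)
  have c := ha.cond w0 ww (herm_zero_left _)
  rw [herm_zero_left, add_zero] at c
  obtain ⟨u, hu⟩ := exists_transvection ww (a := -a / 2) (by
    rw [map_div₀, map_neg, map_ofNat, ← add_div, ← neg_add, c]; simp)
  have h1 := hu.conj d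
  rw [d1] at h1
  have h3 := h1.of_smul.mul (hu.inv ww (herm_zero_left _)) ww (by simp [herm_zero_left])
    (by simp [herm_zero_left])
  rw [ha.unique (k := ⁅d, u⁆) (by
    convert h3 using 1
    · simp
    · simp [herm_zero_left, hl]; field_simp; norm_num
    · rfl)]
  exact commutator_mem_commutator ((mem_cen h2 h).2 ⟨_, (hF.n_of_diag d1 d2).2⟩)
    ((mem_cen h2 h).2 ⟨1, by rw [one_smul, hu.smul_of_orth e (herm_zero_right _)]⟩)

theorem der_cen (h2 : (2 : F) ≠ 0) (h : IsT v s) {b : Fin 2 → Fin 3 → F} (hb : ON q b)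
    (hr : ∀ {g}, g ∈ (emb hb).range ↔ g • v = v) : ⁅𝐳[s], 𝐳[s]⁆ = (emb hb).range := by
  refine le_antisymm (commutator_le.2 fun g hg k hk => hr.2 ?_) ?_
  · obtain ⟨c, hc⟩ := (mem_cen h2 h).1 hg
    obtain ⟨d, hd⟩ := (mem_cen h2 h).1 hk
    obtain ⟨e, he⟩ := (mem_cen h2 h).1 (inv_mem (mul_mem hk hg))
    have : (g * k) • v = (k * g) • v := by
      simp only [mul_smul, hc, hd, SU_smul_comm, smul_comm c d]
    rw [show ⁅g, k⁆ = g * k * (k * g)⁻¹ by group, mul_smul, he, SU_smul_comm, this, ← SU_smul_comm,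
      ← he, smul_inv_smul]
  · obtain ⟨u, u', -, -, -, -, -, -, gen, -⟩ := exists_gen_SU2 (F := F) (q := q)
    rw [MonoidHom.range_eq_map, map_le_iff_le_comap]
    exact (gen _ fun g hg => mem_comap.2 (hg.elim (fun e => tv_mem h2 h (e.emb hb) (hr.1 ⟨g, rfl⟩))
      fun e => tv_mem h2 h (e.emb hb) (hr.1 ⟨g, rfl⟩))).ge

theorem comm_of_map (hθ : θ.ker ≤ center _) (hs : s * s = 1) (h : θ g * θ s = θ s * θ g) :
    g * s = s * g := by
  have h1 : g * s * g⁻¹ * s⁻¹ ∈ center _ := hθ (by simp [h])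
  have h3 := (center_spec h1).1
  have h4 : g * s * g⁻¹ * s⁻¹ * (g * s * g⁻¹ * s⁻¹) = 1 := by
    have := mem_center_iff.1 h1 s⁻¹
    rw [mul_assoc _ s⁻¹, this, ← mul_assoc, ← mul_assoc, conj_mul, mul_assoc _ s⁻¹, ← mul_inv_rev, hs]
    simp
  rw [pow_three', h4, one_mul] at h3
  rw [← mul_inv_eq_iff_eq_mul, mul_inv_eq_one.1 h3]

theorem dc_eq (hθ : θ.ker ≤ center _) (hs : s * s = 1) :
    dc θ.range (θ s) = ⁅𝐳[s], 𝐳[s]⁆.map θ := by
  have : θ.range ⊓ 𝐳[θ s] = 𝐳[s].map θ := by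
    ext x
    refine ⟨?_, ?_⟩
    · rintro ⟨⟨g, rfl⟩, hg⟩
      exact mem_map_of_mem θ (mem_centralizer_singleton_iff.2
        (comm_of_map hθ hs (mem_centralizer_singleton_iff.1 hg)))
    · rintro ⟨g, hg, rfl⟩
      exact ⟨⟨g, rfl⟩, mem_centralizer_singleton_iff.2 (by
        rw [← map_mul, mem_centralizer_singleton_iff.1 hg, map_mul])⟩
  rw [dc, this, map_commutator]

theorem lift (h2 : (2 : F) ≠ 0) (hθ : θ.ker ≤ center _) {x : G} (hx : x ∈ θ.range)
    (h : orderOf x = 2) : ∃ s v, IsT v s ∧ θ s = x := by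
  obtain ⟨g, rfl⟩ := hx
  have h1 : θ g ^ 2 = 1 := h ▸ pow_orderOf_eq_one _
  have h3 : θ (g ^ 3) = θ g := by rw [map_pow, pow_succ, h1, one_mul]
  obtain ⟨v, hv⟩ := exists_isT_of_invol h2 (g := g ^ 3)
    (fun e => by rw [← h3, e, map_one, orderOf_one] at h; omega)
    (by rw [← sq, pow_right_comm, (center_spec (hθ (by rwa [MonoidHom.mem_ker, map_pow]))).1])
  exact ⟨_, v, hv, h3⟩

end StdU

open StdU Class.U in
/-- Commuting involutions of a quotient of `SU₃(q)` define a standard pair. -/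
theorem exists_std_SU (hq : Odd q) {θ : SU 3 F q →* G} (hθ : θ.ker ≤ center _) {x y : G}
    (hx : x ∈ θ.range) (hy : y ∈ θ.range) (f : Fo x y) :
    ∃ θ' : SU 3 F q →* G, Std θ' (dc θ.range x) (dc θ.range y) θ.range := by
  have h2 : (2 : F) ≠ 0 := two_ne hq
  obtain ⟨s, a, hs, rfl⟩ := lift h2 hθ hx f.l
  obtain ⟨t, b, ht, rfl⟩ := lift h2 hθ hy f.r
  have hab := ((hs.commute_iff h2 ht).1 (comm_of_map hθ ht.mul_self f.comm)).resolve_left
    fun e => f.ne (congrArg θ e)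
  obtain ⟨k, hk⟩ := (on2 ht.1 hs.1 hab).witt (on2 (on_single.unit 0) (on_single.unit 2)
    (on_single.orth 0 2 (by decide))) (by simp)
  let θ' := θ.comp (MulAut.conj k).symm.toMonoidHom
  have h1 : θ'.range = θ.range := by
    rw [MonoidHom.range_comp, MonoidHom.range_eq_top.2 (MulEquiv.surjective _),
      ← MonoidHom.range_eq_map]
  have h3 : θ'.ker ≤ center _ := fun g hg => Subgroup.mem_center_iff.2 fun c => by
    have := Subgroup.mem_center_iff.1 (hθ hg) ((MulAut.conj k).symm c)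
    exact (MulAut.conj k).symm.injective (by rw [map_mul, map_mul]; exact this)
  have h4 : ∀ g, θ g = θ' (k * g * k⁻¹) := fun g => by simp [θ', mul_assoc]
  have a1 : IsT (ee F 2) (k * s * k⁻¹) := (show k • a = ee F 2 from hk 1) ▸ hs.conj k
  have a2 : IsT (ee F 0) (k * t * k⁻¹) := (show k • b = ee F 0 from hk 0) ▸ ht.conj k
  refine ⟨θ', ?_, ?_, h1, h3⟩
  · rw [← h1, h4, dc_eq h3 a1.mul_self, der_cen h2 a1 (on_ee (Fin.castSucc_injective 2)) mem_range_iL,
      MonoidHom.range_comp]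
    rfl
  · rw [← h1, h4, dc_eq h3 a2.mul_self, der_cen h2 a2 (on_ee (Fin.succ_injective 2)) mem_range_iR,
      MonoidHom.range_comp]
    rfl

end Cfsg.Agent.L5T
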