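import Mathlib
import Cfsg.Agent.L5T.Defs

/-! S0511: Sylow 2-subgroup `C × R` with `C` abelian and `R` semidihedral or wreathed. -/

set_option autoImplicit false
set_option linter.unusedSectionVars false

namespace Cfsg.Agent.L5T

open Subgroup Cfsg.Agent.PLocal.Amb Cfsg.Agent.Lyons

variable {X : Type*} [Group X] [Finite X]

omit [Finite X] in
theorem exists_pow_sq_mem {N : Subgroup X} {r : X} {n : ℕ} (h : r ^ 2 ^ n = 1) (hr : r ∉ N) :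
    ∃ j, r ^ j ∉ N ∧ r ^ j * r ^ j ∈ N := by
  induction n generalizing r with
  | zero => exact absurd (by rw [show r = 1 by simpa using h]; exact one_mem _) hr
  | succ n ih =>
    by_cases c : r * r ∈ N
    · exact ⟨1, by simpa using hr, by simpa using c⟩
    obtain ⟨j, h1⟩ := ih (r := r * r) (by rwa [← sq, ← pow_mul, ← pow_succ']) c
    exact ⟨2 * j, by rwa [pow_mul, sq]⟩

theorem card_le_pow {m : ℕ} (k : ℕ) : ∀ W : Subgroup X, (∀ a ∈ W, ∀ b ∈ W, Commute a b) →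
    (∀ x ∈ W, x ^ 2 ^ k = 1) → (∀ K ≤ W, (∀ x ∈ K, x * x = 1) → Nat.card K ≤ m) →
    Nat.card W ≤ m ^ k := by
  induction k with
  | zero => exact fun W _ h _ => by rw [(eq_bot_iff_forall W).2 (by simpa using h)]; simp
  | succ k ih =>
    intro W hc he hK
    let f : W →* X := MonoidHom.mk' (fun x => x * x) fun a b => (hc _ b.2 _ a.2).mul_mul_mul_comm _ _
    have h1 : f.range ≤ W := by rintro _ ⟨x, rfl⟩; exact mul_mem x.2 x.2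
    rw [← f.ker.card_mul_index, index_ker, pow_succ', ← card_map_of_injective W.subtype_injective]
    refine Nat.mul_le_mul (hK _ (map_subtype_le _) ?_) (ih _ (fun a ha b hb => hc a (h1 ha) b (h1 hb))
      ?_ fun K h => hK K (h.trans h1))
    · rintro _ ⟨x, hx, rfl⟩; exact hx
    · rintro _ ⟨x, rfl⟩
      exact (by rw [← sq, ← pow_mul, ← pow_succ', he x x.2] : (x.1 * x.1) ^ 2 ^ k = 1)

theorem extremal {P : Subgroup X} (hP : IsSyl 2 P ⊤) {y g : X} (h : g * y * g⁻¹ ∈ 𝐂[P]) :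
    ∃ g', g' * y * g'⁻¹ = g * y * g⁻¹ ∧ cj(g', P ⊓ 𝐳[y]) ≤ P := by
  obtain ⟨k, hk, e⟩ := (hP.mono (K := 𝐳[g * y * g⁻¹]) (fun p hp => mem_cent.2 (h p hp).symm)
    le_top).exists_cj_le (isPGroup_cj g hP.pgrp.to_inf_left)
    (centralizer_singleton_conj g y ▸ cj_mono g inf_le_right)
  exact ⟨k * g, by rw [← conj_eq_of_comm (mem_cent.1 hk)]; group, by rwa [cj_mul]⟩

/-- Write `V = ⟨c, e⟩`, `T₂ = R ⊓ C(e)` (abelian by `ca`), `T = C T₂ = P ⊓ C(e)`; an element of `P`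
is `x r` (`x ∈ C`, `r ∈ R`), it commutes with `x' r'` iff `r`, `r'` commute. "Extremal": if `y ∈ P`
is conjugate to `y' ∈ Z(P)` there is `g` with `g y g⁻¹ = y'` and `cj(g, P ⊓ C(y)) ≤ P` (Sylow in
`C(y')`). (*) If `cj(g, P ⊓ C(y)) ≤ P`, `y ∈ P`, then `r' = g c g⁻¹ ∈ R` (`hcl`) is `c` or
`R`-conjugate to `e`: otherwise `RA.inv` gives `c = ζ²` with `ζ ∈ Z(R)`, so `r' = (g ζ g⁻¹)²` is the
square of an element `x r''` of `P ⊓ C(r')`, `x² r''² ∈ Z(P)`, so `r'` is central.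
1. There is `g ∈ N(T)` interchanging `c` and `e`: extremal `g₀ : r ↦ c` has `g₀ c g₀⁻¹ ≠ c`, so by
(*) `c ~ e`; extremal `g : e ↦ c`, `g c g⁻¹` is `R`-conjugate to `e`, adjust `g` by `R`; then
`cj(g, T) ≤ P ⊓ C(e) = T`.
2. `s` and `s' = g s g⁻¹` normalize `T` and `V` and act trivially on `Ω₁(T)/V` (for `t = x t₂ ∈ T`
with `t² = 1`, `s t s⁻¹ t⁻¹ ∈ T₂` is an involution or 1, and these lie in `V` by `rank`). `s` fixes
`c` and swaps `e, e c`; `s'` fixes `e`; so `s s'` is a 3-cycle on `V#`, inverted by `s`. Let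
`ρ = (s s')^(2^j)` have odd order (`exists_pow_coprime`), `C' = T ⊓ C(ρ)`, `W = [T, ρ]`;
`T = C' × W` (S0055 or directly), `W = {ρ u ρ⁻¹ u⁻¹}`.
3. `C' ⊓ R = ⊥` (an involution of `C' ⊓ T₂` lies in `V` and is fixed by `ρ`). `u ↦ ρ u ρ⁻¹ u⁻¹`
embeds `Ω₁(W)` in `V`, so `|Ω₁(W)| ≤ 4`; `W` has exponent dividing `2^k`, so `|W| ≤ 4^k = |T₂|`
(abelian group: `x ↦ x²`, induction on `k`). Hence `|C'| |T₂| ≥ |T|`, `T = C' T₂`, `P = C' R`.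
`s` normalizes `C'`, `[C', s] ≤ C' ⊓ T₂ = 1`; `x t ∈ C'` commutes with `s, e`, so `t ∈ Z(R)` (`ca`).
4. Weak closure: let `x ∈ C'`, `y = g x g⁻¹ = x' r ∈ P` (`x' ∈ C'`, `r ∈ R`). If `r ∈ Z(R)` use
`Lyons.fus` and `hN`. Else choose `j = 2^i` with `r^j ∉ Z(R)`, `r^(2j) ∈ Z(R)`; `flip` gives
`y^j ~ y^j c`. Extremal `h : y^j ↦ x^j`; by (*) `(y^j c)^h = x^j r'` is conjugate to `x^j c` (by `R`
and a power of `ρ`). So `x^j ~ x^j c`, both central in `P`, so equal (`fus`, `hN`): `c = 1`. -/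
theorem lc {P C R : Subgroup X} {c e s : X} {k : ℕ} (hP : IsSyl 2 P ⊤) (ra : RA R c e s k)
    (hC : C ≤ 𝐂[P]) (hd : C ⊓ R = ⊥) (hs : C ⊔ R = P) (hex : ∀ x ∈ C, x ^ 2 ^ k = 1)
    (hf : ∃ r ∈ R, r ≠ c ∧ ∃ g, g * c * g⁻¹ = r)
    (hcl : ∀ g, g * c * g⁻¹ ∈ P → g * c * g⁻¹ ∈ R)
    (hN : ∀ g ∈ 𝐍[P], ∀ x ∈ P, x ∈ 𝐂[P] → g * x * g⁻¹ = x) :
    ∃ (C' : Subgroup X) (ρ : X), C' ≤ 𝐂[P] ∧ C' ⊓ R = ⊥ ∧ C' ⊔ R = P ∧
      (∀ x ∈ C', ∀ g, g * x * g⁻¹ ∈ P → g * x * g⁻¹ = x) ∧ Odd (orderOf ρ) ∧ ρ ∈ 𝐂[C'] ∧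
      ρ ∈ 𝐍[P ⊓ 𝐳[e]] ∧
      ∀ t ∈ P ⊓ 𝐳[e], ∃ x ∈ C', ∃ u ∈ P ⊓ 𝐳[e], t = x * (ρ * u * ρ⁻¹ * u⁻¹) := by
  have hR : R ≤ P := hs ▸ le_sup_right
  have hCP : C ≤ P := hs ▸ le_sup_left
  have cz : ∀ {x : X} {Q : Subgroup X}, x ∈ 𝐂[Q] → ∀ p ∈ Q, Commute x p := fun h p hp => (h p hp).symm
  have dec : ∀ {C : Subgroup X}, C ≤ 𝐂[P] → C ⊔ R = P → ∀ p ∈ P, ∃ x ∈ C, ∃ r ∈ R, p = x * r := fun h e p hp =>
    (mem_sup_of_le_normalizer_right (h.trans ((centralizer_anti hR).trans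
      (centralizer_le_normalizer' R)))).1 (e ▸ hp)
  have cen : ∀ {r}, r ∈ R → r ∈ 𝐂[R] → r ∈ 𝐂[P] := fun hr h p hp => by
    obtain ⟨x, hx, r', hr', rfl⟩ := dec hC hs p hp
    exact ((cz (hC hx) _ (hR hr)).mul_left (cz h _ hr').symm).eq
  have cP := cen ra.c_mem ra.c_cen
  have ce := cz cP e (hR ra.e_mem)
  have se : ¬ Commute s e := fun h => ra.c_ne (by simpa [conj_eq_of_comm h.symm] using ra.ses.symm)
  have e1 : e ≠ 1 := fun h => se (h ▸ Commute.one_right s)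
  have ec : e ≠ c := fun h => se (h ▸ (cz ra.c_cen s ra.s_mem).symm)
  have fz : ∀ x ∈ P, x ∈ 𝐂[P] → ∀ g, g * x * g⁻¹ ∈ 𝐂[P] → g * x * g⁻¹ = x := fun x hx h g hg => by
    obtain ⟨n, hn, e⟩ := fus hP h (mem_top g) hg
    rw [← e, hN n hn.2 x hx h]
  have star : ∀ {g y}, y ∈ P → cj(g, P ⊓ 𝐳[y]) ≤ P →
      g * c * g⁻¹ = c ∨ ∃ h ∈ R, h * (g * c * g⁻¹) * h⁻¹ = e := fun {g y} hy hg => by
    have k : ∀ z ∈ R, z ∈ 𝐂[R] → g * z * g⁻¹ ∈ P := fun z h1 h2 =>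
      hg (conj_mem_cj g ⟨hR h1, mem_cent.2 (cz (cen h1 h2) y hy).symm⟩)
    have h1 := hcl g (k c ra.c_mem ra.c_cen)
    have h2 : g * c * g⁻¹ * (g * c * g⁻¹) = 1 := by rw [conj_mul, ra.cc]; group
    by_cases h3 : g * c * g⁻¹ ∈ 𝐂[R]
    · exact Or.inl ((ra.cen_inv _ h1 h3 h2).resolve_left fun h => ra.c_ne (conj_eq_one_iff.1 h))
    refine Or.inr ((ra.inv _ h1 h2 h3).resolve_right fun ⟨⟨z, z1, z2, z3⟩, h4⟩ => h3 ?_)
    obtain ⟨x, hx, r, hr, e⟩ := dec hC hs _ (k z z1 z2)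
    have h5 := cz (hC hx) r (hR hr)
    have h6 : g * c * g⁻¹ = x * r * (x * r) := by rw [← z3, ← conj_mul, e]
    rw [h6, h5.symm.mul_mul_mul_comm]
    have := centralizer_anti hR (hC hx)
    exact mul_mem (mul_mem this this) (h4 r hr (by
      rw [h6]; exact ((h5.mul_left (Commute.refl r)).mul_left (h5.mul_left (Commute.refl r)))))
  set T := P ⊓ 𝐳[e]
  have decT : ∀ t ∈ T, ∃ x ∈ C, ∃ r ∈ R, Commute e r ∧ t = x * r := fun t ht => by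
    obtain ⟨x, hx, r, hr, rfl⟩ := dec hC hs t ht.1
    exact ⟨x, hx, r, hr, by
      simpa using (cz (hC hx) e (hR ra.e_mem)).symm.inv_right.mul_right (mem_cent.1 ht.2), rfl⟩
  have cT : ∀ a ∈ T, ∀ b ∈ T, Commute a b := fun a ha b hb => by
    obtain ⟨x, hx, r, hr, h1, rfl⟩ := decT a ha
    refine (cz (hC hx) b hb.1).mul_left ?_
    obtain ⟨x', hx', r', hr', h2, rfl⟩ := decT b hb
    exact (cz (hC hx') r (hR hr)).symm.mul_right (by_contra fun h =>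
      se (cz (ra.ca e ra.e_mem r hr r' hr' h1 h2 h) s ra.s_mem).symm)
  -- step 1
  obtain ⟨g, g1, g2, g3⟩ : ∃ g, g * c * g⁻¹ = e ∧ g * e * g⁻¹ = c ∧ g ∈ 𝐍[T] := by
    obtain ⟨r, hr, rc, g, rfl⟩ := hf
    have k0 : g⁻¹ * (g * c * g⁻¹) * g⁻¹⁻¹ = c := by group
    obtain ⟨g₀, k1, k2⟩ := extremal hP (k0.symm ▸ cP : g⁻¹ * (g * c * g⁻¹) * g⁻¹⁻¹ ∈ 𝐂[P])
    obtain ⟨h, -, k3⟩ := (star (hR hr) k2).resolve_left fun e =>
      rc (mul_left_cancel (mul_right_cancel ((k1.trans k0).trans e.symm)))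
    have k4 : (h * g₀)⁻¹ * e * (h * g₀)⁻¹⁻¹ = c := by rw [← k3]; group
    obtain ⟨g₁, k5, k6⟩ := extremal hP (k4.symm ▸ cP : (h * g₀)⁻¹ * e * (h * g₀)⁻¹⁻¹ ∈ 𝐂[P])
    obtain ⟨l, hl, k7⟩ := (star (hR ra.e_mem) k6).resolve_left fun e =>
      ec (mul_left_cancel (mul_right_cancel ((k5.trans k4).trans e.symm)))
    have k8 : l * g₁ * c * (l * g₁)⁻¹ = e := by rw [← k7]; group
    refine ⟨l * g₁, k8, ?_, mem_normalizer_of_cj_le (le_inf ?_ ?_)⟩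
    · rw [← conj_eq_of_comm (cz ra.c_cen l hl), ← k4, ← k5]; group
    · rw [cj_mul]; exact cj_le_of_mem k6 (hR hl)
    · rw [← k8, centralizer_singleton_conj]
      exact cj_mono _ fun t ht => mem_cent.2 (cz cP t ht.1)
  -- step 2
  let V : Subgroup X := ⟨⟨⟨{v | v ∈ R ∧ v ∈ T ∧ v * v = 1}, fun {a b} ha hb => ⟨mul_mem ha.1 hb.1,
    mul_mem ha.2.1 hb.2.1, by rw [(cT _ hb.2.1 _ ha.2.1).mul_mul_mul_comm, ha.2.2, hb.2.2, mul_one]⟩⟩,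
    one_mem _, one_mem _, mul_one _⟩, fun ha => ⟨inv_mem ha.1, inv_mem ha.2.1, by
      rw [← mul_inv_rev, ha.2.2, inv_one]⟩⟩
  have cV : c ∈ V := ⟨ra.c_mem, ⟨hR ra.c_mem, mem_cent.2 ce.symm⟩, ra.cc⟩
  have eV : e ∈ V := ⟨ra.e_mem, ⟨hR ra.e_mem, mem_cent.2 (Commute.refl e)⟩, ra.ee⟩
  have mV : ∀ v ∈ V, v = 1 ∨ v = c ∨ v = e ∨ v = e * c := fun v hv => by
    rcases ra.rank v hv.1 e ra.e_mem hv.2.2 ra.ee (mem_cent.1 hv.2.1.2).symm with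
      h | h | h | h | h | h
    exacts [.inl h, absurd h e1, .inr (.inr (.inl h)), .inr (.inl h), absurd h ec,
      .inr (.inr (.inr (by rw [← ce.eq, ← h, mul_assoc, ra.ee, mul_one])))]
  have nV : ∀ {a}, a * c * a⁻¹ ∈ V → a * e * a⁻¹ ∈ V → ∀ v ∈ V, a * v * a⁻¹ ∈ V :=
    fun h1 h2 v hv => by
      rcases mV v hv with rfl | rfl | rfl | rfl
      exacts [by simp, h1, h2, by rw [← conj_mul]; exact mul_mem h2 h1]
  have sc : s * c * s⁻¹ = c := conj_eq_of_comm (cz ra.c_cen s ra.s_mem)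
  have sT : s ∈ 𝐍[T] := mem_normalizer_of_cj_le (cj_le_iff_forall.2 fun t ht => by
    have h1 := mul_mem (mul_mem (hR ra.s_mem) ht.1) (inv_mem (hR ra.s_mem))
    have h2 := (mem_cent.1 ht.2).map (MulAut.conj s)
    simp only [MulAut.conj_apply, ra.ses] at h2
    exact ⟨h1, mem_cent.2 (by simpa using h2.mul_left (cz cP _ h1).inv_left)⟩)
  let M : Submonoid X := ⟨⟨{a | a ∈ 𝐍[T] ∧ (∀ v ∈ V, a * v * a⁻¹ ∈ V) ∧
      ∀ t ∈ T, t * t = 1 → a * t * a⁻¹ * t⁻¹ ∈ V}, fun {a b} ha hb => ⟨mul_mem ha.1 hb.1,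
    fun v hv => by simpa [mul_assoc] using ha.2.1 _ (hb.2.1 v hv), fun t ht h => by
      convert mul_mem (ha.2.1 _ (hb.2.2 t ht h)) (ha.2.2 t ht h) using 1; group⟩⟩,
    one_mem _, by simp, by simp⟩
  have sR : ∀ t ∈ T, s * t * s⁻¹ * t⁻¹ ∈ R := fun t ht => by
    obtain ⟨x, hx, r, hr, -, rfl⟩ := decT t ht
    have := mul_mem (mul_mem (mul_mem ra.s_mem hr) (inv_mem ra.s_mem)) (inv_mem hr)
    rw [← conj_eq_of_comm (cz (hC hx) _ (hR this)).symm] at this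
    rw [← mul_assoc s, ← (cz (hC hx) s (hR ra.s_mem)).eq]
    convert this using 1
    group
  have sM : s ∈ M := ⟨sT, nV (sc.symm ▸ cV) (ra.ses ▸ mul_mem eV cV), fun t ht h => by
    have h1 := conj_mem_of_mem_normalizer sT ht
    refine ⟨sR t ht, mul_mem h1 (inv_mem ht), ?_⟩
    rw [(cT _ (inv_mem ht) _ h1).mul_mul_mul_comm, conj_mul, ← mul_inv_rev, h]; group⟩
  have gV := nV (g1 ▸ eV) (g2 ▸ cV)
  have sM' : g * s * g⁻¹ ∈ M := ⟨mul_mem (mul_mem g3 sT) (inv_mem g3), fun v hv => by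
    have := nV (a := g⁻¹) (by rw [← g2]; simpa [mul_assoc] using eV)
      (by rw [← g1]; simpa [mul_assoc] using cV) v hv
    simpa [mul_assoc] using gV _ (sM.2.1 _ this), fun t ht h => by
      convert gV _ (sM.2.2 _ (inv_conj_mem_of_mem_normalizer g3 ht) (by
        rw [show g⁻¹ * t * g * (g⁻¹ * t * g) = g⁻¹ * (t * t) * g by group, h]; group)) using 1
      group⟩
  set σ := s * (g * s * g⁻¹) with hσ
  have σe : σ * e * σ⁻¹ = e * c := by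
    rw [show σ * e * σ⁻¹ = s * (g * (s * (g⁻¹ * e * g) * s⁻¹) * g⁻¹) * s⁻¹ by rw [hσ]; group,
      show g⁻¹ * e * g = c by rw [← g1]; group, sc, g1, ra.ses]
  have σc : σ * c * σ⁻¹ = e := by
    rw [show σ * c * σ⁻¹ = s * (g * (s * (g⁻¹ * c * g) * s⁻¹) * g⁻¹) * s⁻¹ by rw [hσ]; group,
      show g⁻¹ * c * g = e by rw [← g2]; group, ra.ses, ← conj_mul (b := g), g1, g2, ← conj_mul, sc, ra.ses,
      ← mul_assoc, ce.eq, mul_assoc, ra.cc, mul_one]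
  have σd : σ * (e * c) * σ⁻¹ = c := by
    rw [← conj_mul, σe, σc, ← ce.eq, mul_assoc, ra.ee, mul_one]
  have σ3 : ∀ x, σ ^ 3 * x * (σ ^ 3)⁻¹ = σ * (σ * (σ * x * σ⁻¹) * σ⁻¹) * σ⁻¹ := fun x => by
    simp [pow_succ, mul_assoc]
  obtain ⟨j, hj⟩ := exists_pow_coprime (p := 2) σ
  have ρM := pow_mem (mul_mem sM sM') (2 ^ j)
  have ρs : s * σ ^ 2 ^ j * s⁻¹ = (σ ^ 2 ^ j)⁻¹ := by
    rw [← conj_pow, ← inv_pow, hσ, mul_inv_rev, ← mul_assoc, ra.ss, one_mul, conj_inv,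
      inv_eq_of_mul_eq_one_left ra.ss]
  have ρV : ∀ v ∈ V, Commute v (σ ^ 2 ^ j) → v = 1 := fun v hv h => by
    have h3 : σ ^ 3 * v * (σ ^ 3)⁻¹ = v := by
      rcases mV v hv with rfl | rfl | rfl | rfl <;> simp only [σ3, σe, σc, σd] <;> simp
    obtain ⟨a, b, ab⟩ := Nat.isCoprime_iff_coprime.2 (Nat.Coprime.pow_left j (by decide : Nat.Coprime 2 3))
    have h4 := (h.zpow_right a).mul_right ((comm_of_conj_eq h3).zpow_right b)
    rw [← zpow_natCast, ← zpow_natCast, ← zpow_mul, ← zpow_mul, ← zpow_add, mul_comm _ a,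
      mul_comm _ b, ab, zpow_one] at h4
    replace h4 := conj_eq_of_comm h4
    rcases mV v hv with rfl | rfl | rfl | rfl
    · rfl
    · exact absurd (σc.symm.trans h4) ec
    · exact absurd (mul_eq_left.1 (σe.symm.trans h4)) ra.c_ne
    · exact absurd (mul_eq_right.1 (h4.symm.trans σd)) e1
  replace hj := Nat.coprime_two_right.1 hj
  generalize σ ^ 2 ^ j = ρ at hj ρM ρs ρV
  -- step 3
  have ρT : ∀ t ∈ T, ρ * t * ρ⁻¹ * t⁻¹ ∈ T := fun t ht =>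
    mul_mem (conj_mem_of_mem_normalizer ρM.1 ht) (inv_mem ht)
  let θ : T →* X := MonoidHom.mk' (fun t => ρ * t * ρ⁻¹ * t⁻¹) fun a b => by
    simp only [coe_mul, coe_inv]
    rw [mul_assoc _ (a.1)⁻¹, (cT _ (inv_mem a.2) _ (ρT _ b.2)).eq]
    group
  have WT : θ.range ≤ T := by rintro _ ⟨t, rfl⟩; exact ρT _ t.2
  have hT : IsPGroup 2 T := hP.pgrp.to_inf_left
  have : IsMulCommutative T := ⟨⟨fun a b => Subtype.ext (cT _ a.2 _ b.2)⟩⟩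
  have inj : ∀ a b : T, a.1 ∈ θ.range → b.1 ∈ θ.range → θ a = θ b → a = b := fun a b ha hb h => by
    have h1 : θ (a * b⁻¹) = 1 := by rw [map_mul, map_inv, h, mul_inv_cancel]
    obtain ⟨u, hu⟩ := mul_mem ha (inv_mem hb)
    refine Subtype.ext (mul_inv_eq_one.1 (mem_bot.1 ((Solv.coprime_centralizer_inf_commutator
      (zpowers ρ) T (zpowers_le.2 ρM.1) (Solv.coprime_card_of_isPGroup hT (by
        rwa [Nat.card_zpowers, Nat.coprime_two_right]))).le ⟨⟨(a * b⁻¹).2, ?_⟩, ?_⟩)))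
    · rw [PLocal.Amb.centralizer_zpowers]
      exact mem_cent.2 (comm_of_conj_eq (mul_inv_eq_one.1 h1)).symm
    · rw [← hu, commutator_comm]
      exact commutator_mem_commutator (mem_zpowers ρ) u.2
  have d1 : ∀ t ∈ T, ∃ x ∈ T ⊓ 𝐳[ρ], ∃ w ∈ θ.range, t = x * w := fun t ht => by
    obtain ⟨w, hw⟩ := Finite.surjective_of_injective (f := fun w : θ.range =>
      (⟨θ ⟨w, WT w.2⟩, _, rfl⟩ : θ.range)) (fun a b h => Subtype.ext (Subtype.ext_iff.1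
        (inj ⟨a, WT a.2⟩ ⟨b, WT b.2⟩ a.2 b.2 (congrArg Subtype.val h)) :)) ⟨_, ⟨t, ht⟩, rfl⟩
    have h1 : θ (⟨t, ht⟩ * (⟨w, WT w.2⟩ : T)⁻¹) = 1 := by
      rw [map_mul, map_inv, ← show θ _ = θ ⟨t, ht⟩ from congrArg Subtype.val hw, mul_inv_cancel]
    exact ⟨t * w.1⁻¹, ⟨T.mul_mem ht (inv_mem (WT w.2)), mem_cent.2
      (comm_of_conj_eq (mul_inv_eq_one.1 h1)).symm⟩, w, w.2, by simp⟩
  have d2 : Nat.card θ.range ≤ 4 ^ k := card_le_pow k _ (fun a ha b hb => cT a (WT ha) b (WT hb))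
    (fun w hw => by
      obtain ⟨x, hx, r, hr, h1, rfl⟩ := decT w (WT hw)
      rw [(cz (hC hx) r (hR hr)).mul_pow, hex x hx, ra.expT r hr h1, mul_one])
    fun K hK h => (Nat.card_le_card_of_injective (β := ({1, c, e, e * c} : Set X))
      (fun x : K => ⟨θ ⟨x, WT (hK x.2)⟩, mV _ (ρM.2.2 _ (WT (hK x.2)) (h x x.2))⟩)
      fun a b h => Subtype.ext (Subtype.ext_iff.1 (inj ⟨a, WT (hK a.2)⟩ ⟨b, WT (hK b.2)⟩
        (hK a.2) (hK b.2) (congrArg Subtype.val h)) :)).trans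
      ((Set.ncard_insert_le _ _).trans (Nat.succ_le_succ ((Set.ncard_insert_le _ _).trans
        (Nat.succ_le_succ ((Set.ncard_insert_le _ _).trans (by simp : _ ≤ 2))))))
  set C' := T ⊓ 𝐳[ρ]
  have d3 : C' ⊓ R = ⊥ := (eq_bot_iff_forall _).2 fun y hy => by_contra fun y1 => by
    obtain ⟨n, hn⟩ := isPGroup_iff.1 ra.two y hy.2
    obtain ⟨i, h1, h2⟩ := exists_pow_sq_mem (N := ⊥) hn y1
    have := pow_mem hy i
    exact h1 (ρV _ ⟨this.2, this.1.1, h2⟩ (mem_cent.1 this.1.2).symm)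
  have nT : ∀ {A B : Subgroup X}, A ≤ T → B ≤ T → A ≤ 𝐍[B] := fun hA hB a ha =>
    centralizer_le_normalizer' _ fun b hb => cT b (hB hb) a (hA ha)
  have RT : R ⊓ 𝐳[e] ≤ T := inf_le_inf_right _ hR
  have d4 : C' ⊔ R ⊓ 𝐳[e] = T := eq_of_le_of_card_ge (sup_le inf_le_left RT) (by
    have h1 := Grp.card_sup_mul_card_inf_of_le_normalizer (nT (A := C') inf_le_left RT)
    rw [← inf_assoc, d3, bot_inf_eq, card_bot, mul_one, ra.cardT] at h1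
    refine h1 ▸ (card_le_of_le fun t ht => ?_).trans ((Nat.le_of_dvd (Nat.mul_pos Nat.card_pos
      Nat.card_pos) (Grp.card_sup_dvd_of_le_normalizer (nT (A := C') inf_le_left WT))).trans
      (Nat.mul_le_mul_left _ d2))
    obtain ⟨x, hx, w, hw, rfl⟩ := d1 t ht
    exact mul_mem_sup hx hw)
  have d5 : C' ⊔ R = P := le_antisymm (sup_le (inf_le_left.trans inf_le_left) hR) (hs ▸ sup_le
    ((le_inf hCP fun x hx => mem_cent.2 (cz (hC hx) e (hR ra.e_mem)).symm).trans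
      (d4.ge.trans (sup_le_sup_left inf_le_left _))) le_sup_right)
  have d6 : C' ≤ 𝐂[P] := fun y hy => by
    have h1 : s * y * s⁻¹ ∈ C' := ⟨conj_mem_of_mem_normalizer sT hy.1, mem_cent.2 (by
      simpa [ρs] using ((mem_cent.1 hy.2).map (MulAut.conj s)).inv_left)⟩
    have h2 := comm_of_conj_eq (mul_inv_eq_one.1 (mem_bot.1 (d3.le ⟨C'.mul_mem h1 (inv_mem hy), sR y hy.1⟩)))
    obtain ⟨x, hx, r, hr, h3, rfl⟩ := decT y hy.1
    exact mul_mem (hC hx) (cen hr (ra.ca r hr s ra.s_mem e ra.e_mem (by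
      simpa using (cz (hC hx) s (hR ra.s_mem)).inv_left.mul_left h2) h3.symm se))
  have ρC : ρ ∈ 𝐂[C'] := fun y hy => (mem_cent.1 hy.2).symm
  refine ⟨C', ρ, d6, d3, d5, fun x hx g hg => ?_, hj, ρC, ρM.1, fun t ht => ?_⟩
  swap
  · obtain ⟨x, hx, _, ⟨u, rfl⟩, rfl⟩ := d1 t ht
    exact ⟨x, hx, u, u.2, rfl⟩
  -- step 4
  obtain ⟨x', hx', r, hr, h⟩ := dec d6 d5 _ hg
  refine fz x hx.1.1 (d6 hx) g (h ▸ mul_mem (d6 hx') (cen hr (by_contra fun hc => ra.c_ne ?_)))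
  obtain ⟨n, hn⟩ := isPGroup_iff.1 ra.two r hr
  obtain ⟨i, h1, h2⟩ := exists_pow_sq_mem hn hc
  obtain ⟨l, hl, h3⟩ := ra.flip _ (pow_mem hr i) h1 h2
  replace hx := pow_mem hx i
  replace hg := pow_mem hg i
  replace h : g * x ^ i * g⁻¹ = x' ^ i * r ^ i := by
    rw [← conj_pow, h, (cz (d6 hx') r (hR hr)).mul_pow]
  rw [conj_pow] at hg
  replace h3 : l * (g * x ^ i * g⁻¹) * l⁻¹ = g * x ^ i * g⁻¹ * c := by
    rw [h, ← conj_mul, h3, conj_eq_of_comm (cz (d6 (pow_mem hx' i)) l (hR hl)), mul_assoc]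
  generalize x ^ i = z at hx hg h3
  have k0 : g⁻¹ * (g * z * g⁻¹) * g⁻¹⁻¹ = z := by group
  obtain ⟨a, k1, k2⟩ := extremal hP (k0.symm ▸ d6 hx : g⁻¹ * (g * z * g⁻¹) * g⁻¹⁻¹ ∈ 𝐂[P])
  have RC : R ≤ 𝐂[C'] := fun r hr y hy => cz (d6 hy) r (hR hr)
  obtain ⟨m, hm, k3⟩ : ∃ m ∈ 𝐂[C'], m * (a * c * a⁻¹) * m⁻¹ = c := by
    obtain k3 | ⟨b, hb, k3⟩ := star hg k2
    · exact ⟨1, one_mem _, by simpa using k3⟩
    rcases mV _ (ρM.2.1 c cV) with k4 | k4 | k4 | k4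
    · exact absurd (conj_eq_one_iff.1 k4) ra.c_ne
    · exact absurd (ρV c cV (comm_of_conj_eq k4)) ra.c_ne
    · exact ⟨ρ⁻¹ * b, mul_mem (inv_mem ρC) (RC hb), by
        rw [← mul_left_inj ρ⁻¹, ← mul_right_inj ρ, ← mul_assoc, ← mul_assoc ρ c, k4, ← k3]; group⟩
    · exact ⟨ρ⁻¹ * s * b, mul_mem (mul_mem (inv_mem ρC) (RC ra.s_mem)) (RC hb), by
        rw [← mul_left_inj ρ⁻¹, ← mul_right_inj ρ, ← mul_assoc, ← mul_assoc ρ c, k4, ← ra.ses, ← k3]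
        group⟩
  have k5 : m * a * l * g * z * (m * a * l * g)⁻¹ = z * c := by
    rw [show m * a * l * g * z * (m * a * l * g)⁻¹ = m * (a * (l * (g * z * g⁻¹) * l⁻¹) * a⁻¹) * m⁻¹
      by group, h3, ← conj_mul (b := a), k1, k0, ← conj_mul, k3, conj_eq_of_comm (hm z hx)]
  exact mul_eq_left.1 (k5.symm.trans (fz z hx.1.1 (d6 hx) _ (k5 ▸ mul_mem (d6 hx) cP)))

end Cfsg.Agent.L5T
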