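import Mathlib
import Cfsg.Agent.L5T.SuL
import Cfsg.Agent.L5T.LC

/-! S0511: the complement `R`. -/

set_option autoImplicit false
set_option linter.unusedSectionVars false

namespace Cfsg.Agent.L5T

open Subgroup Cfsg.Agent.PLocal.Amb Cfsg.Agent.Lyons
open scoped commutatorElement

variable {G : Type*} [Group G] [Finite G] {S B R₁ R₂ : Subgroup G} {w c₁ e₁ s₁ c₂ e₂ s₂ : G} {k : ℕ}

theorem DP.cen_le {R : Subgroup G} (h : DP B R₁ R₂) (h' : DP B R R₂) : B ⊓ 𝐂[R₁] ≤ B ⊓ 𝐂[R] := by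
  refine fun x hx => ⟨hx.1, fun y hy => ?_⟩
  obtain ⟨a, ha, b, hb, rfl⟩ := h.mem_iff.1 (h'.le₁ hy)
  obtain ⟨a', ha', b', hb', rfl⟩ := h.mem_iff.1 hx.1
  refine (h.commute_iff ha hb ha' hb').2 ⟨(h.mem_cen ha' hb').1 hx.2 a ha, ?_⟩
  simpa using ((h.comm a ha b' hb').inv_left.mul_left (h'.comm _ hy b' hb'))

theorem exists_odd_lift {X : Type*} [Group X] {f : G →* X} (hf : Function.Surjective f) {y : X}
    (hy : Odd (orderOf y)) : ∃ x, f x = y ∧ Odd (orderOf x) := by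
  obtain ⟨x, rfl⟩ := hf y
  obtain ⟨n, hn⟩ := exists_pow_coprime (p := 2) x
  obtain ⟨m, hm⟩ := (mem_zpowers_pow_iff (g := f x) (k := 2 ^ n)).2
    ((Nat.coprime_two_left.2 hy).pow_left n)
  exact ⟨(x ^ 2 ^ n) ^ m, by rw [map_zpow, map_pow]; exact hm, (Nat.coprime_two_right.1 hn).of_dvd_nat
    (orderOf_dvd_of_mem_zpowers (zpow_mem_zpowers _ m))⟩

/-- Let `N = C(c₁) ⊓ N(R₁')`, `B ∈ Syl₂(N)` (`sylB`), `π : N → X = N / R₁'`. Apply `lc` to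
`P = π B`, `C = π R₁` (central in `P`, exponent by `expD`), `π R₂` (`RA.subgroupOf`, `RA.map`).
`hf`: `n c₂ n⁻¹ = ε r` with `ε ∈ {1, c₁}` (`shape`), `r ≠ c₂` (`stepA`), `n ∈ N` by `ctl`,
`π c₁ = 1`. `hcl`: `shape`. `hN`: `g ∈ N` normalizing `B` is a product of its 2-part, which lies in
`B`, and its odd part, which centralizes `B` (`autB`).
Let `R ≤ B` be the preimage of `C'`. `R ⊓ R₂ = ⊥` (`x ∈ R ⊓ R₂` has `π x = 1`), `[R, R₂] ≤ R₁' ⊓ R₂`,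
`R ⊔ R₂ = B`; `DP.rt`. `cen`: `a b` (`a ∈ R₁`, `b ∈ R₂`) in `R` has `b ∈ Z(R₂)`, so `R ≤ R₁ Z₂`, and
symmetrically `R₁ ≤ R Z₂`; `Z₂ ≤ Z(B)`. `sc`: weak closure of the elements of `C'`.
`rho`: lift `ρ` to an element of odd order of `N` (a power of a lift); it normalizes `R`, so
centralizes `R` (`RT.exists_ra`, `cen_of_odd`). For `t ∈ R₂ ⊓ C(e₂)`: `π t = π x [ρ, π u]`,
`u = a u₂` with `a ∈ R`, `u₂ ∈ R₂ ≤ C(R)`; `ρ u ρ⁻¹ u⁻¹ = a (ρ u₂ ρ⁻¹ u₂⁻¹) a⁻¹ = ρ u₂ ρ⁻¹ u₂⁻¹ =: y`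
lies in `C(R)'`, and `t y⁻¹ ∈ R ⊓ C(R)`. -/
theorem Su.exists_La (h : Su S B R₁ R₂ w c₁ e₁ s₁ c₂ e₂ s₂ k) (hn : NIs B c₁ c₂) :
    ∃ R, La S B R₁ R₂ w c₁ e₁ s₁ c₂ e₂ s₂ k R := by
  have dp := h.dp
  set D := ⁅R₁, R₁⁆
  have DR : D ≤ R₁ := commutator_le_self' R₁
  set N := 𝐳[c₁] ⊓ 𝐍[D]
  have BN : B ≤ N := le_inf h.sylB.le (le_normalizer_commutator dp.norm₁ dp.norm₁)
  have : (D.subgroupOf N).Normal := normal_subgroupOf' inf_le_right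
  let π := QuotientGroup.mk' (D.subgroupOf N)
  have sπ : Function.Surjective π := QuotientGroup.mk'_surjective _
  have eπ : ∀ {a b : N}, π a = π b ↔ a.1⁻¹ * b.1 ∈ D := QuotientGroup.eq
  have oπ : ∀ {a : N}, π a = 1 ↔ a.1 ∈ D := QuotientGroup.eq_one_iff _
  let im (Y : Subgroup G) := (Y.subgroupOf N).map π
  have fw : ∀ {Y : Subgroup G} {a : N}, a.1 ∈ Y → π a ∈ im Y := fun ha => ⟨_, ha, rfl⟩
  have bk : ∀ {a : N}, π a ∈ im B → a.1 ∈ B := fun ⟨b, hb, e⟩ =>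
    (B.mul_mem_cancel_left (inv_mem hb)).1 (dp.le₁ (DR (eπ.1 e)))
  have d1 : ∀ {x}, x ∈ D → x ∈ R₂ → x = 1 := fun a b => mem_bot.1 (dp.disj.le ⟨DR a, b⟩)
  have sB : IsSyl 2 B N := h.sylB.mono BN inf_le_left
  let n₂ (x : R₂) : N := ⟨x, BN (dp.le₂ x.2)⟩
  have sh : ∀ (n : N) {a b : G} (ha : a ∈ R₁) (hb : b ∈ R₂), n * c₂ * n.1⁻¹ = a * b →
      π n * π (n₂ ⟨c₂, h.ra₂.c_mem⟩) * (π n)⁻¹ = π (n₂ ⟨b, hb⟩) := fun n a b ha hb e => by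
    rw [← map_inv, ← map_mul, ← map_mul, eq_comm, eπ]
    change b⁻¹ * (n * c₂ * n.1⁻¹) ∈ D
    rw [e, (dp.comm a ha b hb).eq, inv_mul_cancel_left]
    rcases h.shape n.2.1 ha hb e with rfl | rfl
    exacts [one_mem _, h.ra₁.c_mem_der]
  obtain ⟨C, ρ, c1, c2, c3, c4, c5, c6, -, c7⟩ := lc (P := im B) (C := im R₁) (R := im R₂)
    (c := π (n₂ ⟨c₂, h.ra₂.c_mem⟩)) (e := π (n₂ ⟨e₂, h.ra₂.e_mem⟩)) (s := π (n₂ ⟨s₂, h.ra₂.s_mem⟩))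
    (k := k)
    (by
      obtain ⟨P, hP⟩ := sB.exists_sylow
      simpa only [hP, map_top_of_surjective π sπ] using (isSyl_top P).map π)
    ((RA.subgroupOf h.ra₂ (dp.le₂.trans BN)).map π (eq_bot_iff.2 fun x hx =>
      mem_bot.2 (Subtype.ext (d1 (oπ.1 hx.2) hx.1))))
    (by
      rintro _ ⟨a, ha, rfl⟩ _ ⟨b, hb, rfl⟩
      obtain ⟨a', ha', b', hb', e⟩ := dp.mem_iff.1 (show b.1 ∈ B from hb)
      rw [← commutatorElement_eq_one_iff_mul_comm, ← map_commutatorElement, oπ]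
      change ⁅b.1, a.1⁆ ∈ D
      rw [e, ← mul_one a.1, dp.comm_mul ha' hb' (show a.1 ∈ R₁ from ha) (one_mem _), 
        commutatorElement_one_right, mul_one]
      exact commutator_mem_commutator ha' ha)
    (eq_bot_iff.2 (by
      rintro _ ⟨⟨a, ha, rfl⟩, b, hb, e⟩
      have : b.1⁻¹ = 1 := mem_bot.1 (dp.disj.le
        ⟨(R₁.mul_mem_cancel_right ha).1 (DR (eπ.1 e)), R₂.inv_mem hb⟩)
      rw [← e, show b = 1 from Subtype.ext (inv_eq_one.1 this), map_one]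
      exact one_mem _))
    (by rw [← Subgroup.map_sup, ← subgroupOf_sup (dp.le₁.trans BN) (dp.le₂.trans BN), ← dp.B_eq])
    (by
      rintro _ ⟨a, ha, rfl⟩
      rw [← map_pow, oπ]
      exact h.ra₁.expD _ ha)
    (by
      obtain ⟨g, g1, g2, g3⟩ := hn
      obtain ⟨a, ha, b, hb, e⟩ := dp.mem_iff.1 g2
      have a1 := h.shape g1 ha hb e
      obtain ⟨n, n1, n2⟩ := h.ctl (x := c₂) ⟨dp.le₂ h.ra₂.c_mem, centralizer_anti dp.le₁ h.c₂_cen⟩ g1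
        ⟨g2, e ▸ (dp.mem_cen ha hb).2 (by rcases a1 with rfl | rfl; exacts [one_mem _, h.ra₁.c_cen])⟩
      refine ⟨π (n₂ ⟨b, hb⟩), fw hb, fun e' => ?_, π ⟨n, n1⟩, sh _ ha hb (n2.trans e)⟩
      obtain rfl : b = c₂ := inv_mul_eq_one.1 (d1 (eπ.1 e') (mul_mem (inv_mem hb) h.ra₂.c_mem))
      rcases a1 with rfl | rfl
      · exact g3 (by rw [e, one_mul])
      · exact h.stepA (g * w) (by rw [← e, ← h.wc]; group))
    (fun g hg => by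
      obtain ⟨n, rfl⟩ := sπ g
      rw [← map_inv, ← map_mul, ← map_mul] at hg
      obtain ⟨a, ha, b, hb, e⟩ := dp.mem_iff.1 (bk hg)
      rw [sh n ha hb e]
      exact fw hb)
    (by
      rintro g hg _ ⟨m, hm, rfl⟩ hx
      obtain ⟨n, rfl⟩ := sπ g
      have n1 : n.1 ∈ 𝐍[B] := mem_normalizer_of_cj_le (cj_le_iff_forall.2 fun b hb =>
        bk (a := n * ⟨b, BN hb⟩ * n⁻¹) (by
          rw [map_mul, map_mul, map_inv]; exact conj_mem_of_mem_normalizer hg (fw hb)))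
      have h1 := sB.mono (le_inf BN le_normalizer) inf_le_left
      have h2 : 𝐎[2, N ⊓ 𝐍[B]] ≤ N ⊓ 𝐂[B] := pRes_le_iff.2 fun x hx hc =>
        ⟨hx.1, h.autB hx.1.1 hx.2 (Nat.coprime_two_right.1 hc)⟩
      have h3 : n.1 ∈ B ⊔ 𝐎[2, N ⊓ 𝐍[B]] := by rw [sup_comm, h1.pRes_sup]; exact ⟨n.2, n1⟩
      obtain ⟨b, hb, y, hy, e⟩ :=
        (mem_sup_of_le_normalizer_right (h1.le.trans (le_normalizer_pRes 2 _))).1 h3
      have : n * m * n⁻¹ = ⟨b, BN hb⟩ * m * (⟨b, BN hb⟩ : N)⁻¹ := Subtype.ext (by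
        change n.1 * m * n.1⁻¹ = b * m * b⁻¹
        rw [e, mul_assoc b, ← (h2 hy).2 m.1 hm]; group)
      rw [← map_inv, ← map_mul, ← map_mul, this, map_mul, map_mul, hx _ (fw hb), map_inv,
        mul_inv_cancel_right])
  let R := (C.comap π).map N.subtype
  have mR : ∀ {a : N}, a.1 ∈ R ↔ π a ∈ C := mem_map_subtype
  have RB : R ≤ B := by rintro _ ⟨a, ha, rfl⟩; exact bk (c3 ▸ mem_sup_left ha)
  have dp' : DP B R R₂ := by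
    refine ⟨?_, eq_bot_iff.2 ?_, le_antisymm (fun x hx => ?_) (sup_le RB dp.le₂)⟩
    · rintro _ ⟨a, ha, rfl⟩ b hb
      refine commutatorElement_eq_one_iff_commute.1 (d1 (oπ (a := ⁅a, n₂ ⟨b, hb⟩⁆).1 ?_)
        (mul_mem (conj_mem_of_mem_normalizer (dp.norm₂ (RB ⟨a, ha, rfl⟩)) hb) (inv_mem hb)))
      rw [map_commutatorElement, commutatorElement_eq_one_iff_mul_comm]
      exact (c1 ha _ (fw (dp.le₂ hb))).symm
    · rintro _ ⟨⟨a, ha, rfl⟩, hb⟩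
      exact mem_bot.2 (d1 (oπ.1 (mem_bot.1 (c2.le ⟨ha, fw hb⟩))) hb)
    · obtain ⟨y, hy, _, ⟨b, hb, rfl⟩, e⟩ := (mem_sup_of_le_normalizer_right (c1.trans
        ((centralizer_anti (c3 ▸ le_sup_right)).trans (centralizer_le_normalizer' _)))).1
          (c3.ge (fw (a := ⟨x, BN hx⟩) hx))
      have : x * b.1⁻¹ ∈ R := (mR (a := ⟨x, BN hx⟩ * b⁻¹)).2 (by rwa [map_mul, map_inv, e, mul_inv_cancel_right])
      simpa using mul_mem (mem_sup_left this : _ ∈ R ⊔ R₂) (mem_sup_right hb)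
  have rt := dp.rt dp' h.ra₁.ty
  refine ⟨R, h, hn, dp', rt, (mR (a := ⟨c₁, BN (dp.le₁ h.ra₁.c_mem)⟩)).2 ?_,
    le_antisymm (dp'.cen_le dp) (dp.cen_le dp'), ?_, fun t ht => ?_⟩
  · rw [oπ.2 h.ra₁.c_mem_der]
    exact one_mem _
  · rintro _ ⟨a, ha, rfl⟩ g hg e
    refine (mR (a := ⟨g, hg⟩ * a * (⟨g, hg⟩ : N)⁻¹)).2 ?_
    have := fw (a := ⟨g, hg⟩ * a * (⟨g, hg⟩ : N)⁻¹) e
    rw [map_mul, map_mul, map_inv] at this ⊢
    rwa [c4 _ ha _ this]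
  · obtain ⟨n, rfl, n1⟩ := exists_odd_lift sπ c5
    obtain ⟨c, e, s, j, ra⟩ := rt.exists_ra
    have n2 : n.1 ∈ 𝐂[R] := ra.cen_of_odd (mem_normalizer_of_cj_le (cj_le_iff_forall.2 (by
      rintro _ ⟨a, ha, rfl⟩
      refine (mR (a := n * a * n⁻¹)).2 ?_
      rwa [map_mul, map_mul, ← c6 _ ha, map_inv, mul_inv_cancel_right]))) (by rwa [orderOf_coe])
    obtain ⟨x, hx, _, ⟨⟨u, hu, rfl⟩, -⟩, e⟩ := c7 (π (n₂ ⟨t, ht.1⟩)) ⟨fw (dp.le₂ ht.1), mem_cent.2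
      (Commute.map (Subtype.ext (mem_cent.1 ht.2).eq) π)⟩
    obtain ⟨a, ha, b, hb, e'⟩ := dp'.mem_iff.1 (show u.1 ∈ B from hu)
    have c8 : R₂ ≤ 𝐂[R] := fun b hb a ha => dp'.comm a ha b hb
    have c9 : n.1 * b * n.1⁻¹ * b⁻¹ ∈ 𝐂[R] :=
      mul_mem (mul_mem (mul_mem n2 (c8 hb)) (inv_mem n2)) (inv_mem (c8 hb))
    have e1 : n.1 * u * n.1⁻¹ * u.1⁻¹ = n.1 * b * n.1⁻¹ * b⁻¹ := by
      rw [e', ← mul_assoc, ← n2 a ha, ← mul_inv_cancel_right (n.1 * b * n.1⁻¹ * b⁻¹) a, ← c9 a ha]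
      group
    refine ⟨t * (n.1 * b * n.1⁻¹ * b⁻¹)⁻¹, ⟨?_, (𝐂[R]).mul_mem (c8 ht.1) ((𝐂[R]).inv_mem c9)⟩, _,
      commutator_mem_commutator n2 (c8 hb), (inv_mul_cancel_right _ _).symm⟩
    rw [← e1]
    refine (mR (a := n₂ ⟨t, ht.1⟩ * (n * u * n⁻¹ * u⁻¹)⁻¹)).2 ?_
    simpa only [map_mul, map_inv, e, mul_inv_cancel_right] using hx

end Cfsg.Agent.L5T
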