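import Mathlib
import Cfsg.Agent.L5T.SuL
import Cfsg.Agent.Transfer.ThompsonMin
import Cfsg.Agent.Grp.PFrattini

/-! S0511: the complement `D`. -/

set_option autoImplicit false
set_option linter.unusedSectionVars false
set_option linter.unusedVariables false

namespace Cfsg.Agent.L5T

open Subgroup Cfsg.Agent.PLocal.Amb Cfsg.Agent.Lyons
open scoped commutatorElement

variable {G : Type*} [Group G] [Finite G] {S B R₁ R₂ : Subgroup G} {w c₁ e₁ s₁ c₂ e₂ s₂ : G} {k : ℕ}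
  {R : Subgroup G}

namespace L2

theorem der_sup {Y O : Subgroup G} (h : O ≤ 𝐂[Y]) (h' : O ≤ 𝐂[O]) : ⁅O ⊔ Y, O ⊔ Y⁆ ≤ ⁅Y, Y⁆ :=
  commutator_le.2 fun a ha b hb => by
    have hn := h.trans (centralizer_le_normalizer' Y)
    obtain ⟨o, ho, y, hy, rfl⟩ := (mem_sup_of_le_normalizer_right hn).1 ha
    obtain ⟨o', ho', y', hy', rfl⟩ := (mem_sup_of_le_normalizer_right hn).1 hb
    convert commutator_mem_commutator hy hy' using 1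
    have c : ∀ y ∈ Y, ∀ o ∈ O, ∀ x, y * (o * x) = o * (y * x) := fun y hy o ho x => by
      rw [← mul_assoc, h ho y hy, mul_assoc]
    have d : ∀ x, o' * (o⁻¹ * x) = o⁻¹ * (o' * x) := fun x => by
      rw [← mul_assoc, h' (inv_mem ho) o' ho', mul_assoc]
    simp only [commutatorElement_def, mul_inv_rev, mul_assoc, c _ hy _ ho', c _ hy _ (inv_mem ho),
      c _ hy _ (inv_mem ho'), c _ hy' _ (inv_mem ho), c _ hy' _ (inv_mem ho'), d,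
      c _ (inv_mem hy) _ (inv_mem ho), c _ (inv_mem hy) _ (inv_mem ho'),
      h (inv_mem ho') _ (inv_mem hy'), mul_inv_cancel_left]

theorem exists_idx {N L : Subgroup G} (hn : L ≤ 𝐍[N]) (h : 𝐎[2, L] ≤ N) (hN : N ≤ L) (h1 : ¬ L ≤ N) :
    ∃ M ≤ L, M.relIndex L = 2 ∧ N ≤ M := by
  have := Fact.mk Nat.prime_two
  have := normal_subgroupOf' hn
  have hq : IsPGroup 2 (L ⧸ N.subgroupOf L) := fun x => by
    obtain ⟨x, rfl⟩ := QuotientGroup.mk_surjective x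
    obtain ⟨n, e⟩ := exists_pow_mem_pRes (p := 2) x.2
    exact ⟨n, (QuotientGroup.eq_one_iff (x ^ 2 ^ n)).2 (h e)⟩
  have : Nontrivial (L ⧸ N.subgroupOf L) :=
    QuotientGroup.nontrivial_iff.2 fun e => h1 (subgroupOf_eq_top.1 e)
  obtain ⟨M, hM, -⟩ := (eq_top_or_exists_le_coatom (⊥ : Subgroup (L ⧸ N.subgroupOf L))).resolve_left
    bot_ne_top
  refine ⟨(M.comap (QuotientGroup.mk' _)).map L.subtype, map_subtype_le _, ?_, fun x hx =>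
    ⟨⟨x, hN hx⟩, ?_, rfl⟩⟩
  · rw [relIndex, map_subtype_subgroupOf, index_comap_of_surjective _
      (QuotientGroup.mk'_surjective _), Grp.PFrattini.index_of_isCoatom hq hM]
  · exact QuotientGroup.le_comap_mk' _ M hx

theorem exists_sub {p : G → Prop} (hp : ∀ x ∈ S, ∀ y ∈ S, p (x * y) ↔ (p x ↔ p y)) {u : G}
    (hu : u ∈ S) (h : ¬ p u) : ∃ Q ≤ S, Q.relIndex S = 2 ∧ ∀ x, x ∈ Q ↔ x ∈ S ∧ p x := by
  have h1 : p 1 := by simpa using hp 1 (one_mem _) 1 (one_mem _)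
  refine ⟨⟨⟨⟨{x | x ∈ S ∧ p x}, fun a b => ⟨mul_mem a.1 b.1, (hp _ a.1 _ b.1).2 (iff_of_true a.2 b.2)⟩⟩,
    one_mem _, h1⟩, fun a => ⟨inv_mem a.1, ((hp _ a.1 _ (inv_mem a.1)).1 (by simpa using h1)).1 a.2⟩⟩,
    fun _ a => a.1, relIndex_eq_two_iff.2 ⟨u, hu, fun b hb => ?_⟩, fun _ => Iff.rfl⟩
  show Xor (_ ∧ _) (_ ∧ _)
  have := mul_mem hb hu
  rw [hp b hb u hu]
  unfold Xor
  tauto

theorem exists_Q (h : Su S B R₁ R₂ w c₁ e₁ s₁ c₂ e₂ s₂ k) {q : G → Prop}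
    (hq : ∀ x ∈ R₂, ∀ y ∈ R₂, q (x * y) ↔ (q x ↔ q y)) {u : G} (hu : u ∈ R₂) (h1 : ¬ q u) :
    ∃ Q ≤ S, Q.relIndex S = 2 ∧ ∀ a ∈ R₁, ∀ b ∈ R₂, (a * b ∈ Q ↔ (q (w * a * w⁻¹) ↔ q b)) ∧
      (a * b * w ∈ Q ↔ (q (w * a * w⁻¹) ↔ q b)) := by
  let p : G → Prop := fun x => ∀ a ∈ R₁, ∀ b ∈ R₂, x = a * b ∨ x = a * b * w →
    (q (w * a * w⁻¹) ↔ q b)
  have m : ∀ a ∈ R₁, ∀ b ∈ R₂, a * b ∈ B := fun a ha b hb => mul_mem (h.dp.le₁ ha) (h.dp.le₂ hb)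
  have k1 : ∀ a ∈ R₁, ∀ b ∈ R₂, p (a * b) ↔ (q (w * a * w⁻¹) ↔ q b) := fun a ha b hb =>
    ⟨fun c => c a ha b hb (.inl rfl), fun c a' ha' b' hb' e => by
      rcases e with e | e
      · obtain ⟨rfl, rfl⟩ := h.dp.uniq ha hb ha' hb' e
        exact c
      · exact absurd ((mul_mem_cancel_left (m a' ha' b' hb')).1 (e ▸ m a ha b hb)) h.w_not⟩
  have k2 : ∀ a ∈ R₁, ∀ b ∈ R₂, p (a * b * w) ↔ (q (w * a * w⁻¹) ↔ q b) := fun a ha b hb =>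
    ⟨fun c => c a ha b hb (.inr rfl), fun c a' ha' b' hb' e => by
      rcases e with e | e
      · exact absurd ((mul_mem_cancel_left (m a ha b hb)).1 (e ▸ m a' ha' b' hb')) h.w_not
      · obtain ⟨rfl, rfl⟩ := h.dp.uniq ha hb ha' hb' (mul_right_cancel e)
        exact c⟩
  have d : ∀ x ∈ S, ∃ a ∈ R₁, ∃ b ∈ R₂, x = a * b ∨ x = a * b * w := fun x hx => by
    rcases h.mem x hx with e | e <;> obtain ⟨a, ha, b, hb, e⟩ := h.dp.mem_iff.1 e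
    · exact ⟨a, ha, b, hb, .inl e⟩
    · exact ⟨a, ha, b, hb, .inr (by rw [← e, mul_assoc, h.ww, mul_one])⟩
  have wi : w⁻¹ = w := inv_eq_of_mul_eq_one_left h.ww
  have w1 : ∀ a ∈ R₁, w * a * w⁻¹ ∈ R₂ := fun a ha => h.wR ▸ conj_mem_cj w ha
  have w2 : ∀ b ∈ R₂, w * b * w⁻¹ ∈ R₁ := fun b hb => h.symm.wR ▸ conj_mem_cj w hb
  have c : ∀ x, w * (w * x) = x := fun x => by rw [← mul_assoc, h.ww, one_mul]
  have w3 : ∀ a b, w * (a * (w * b * w⁻¹)) * w⁻¹ = w * a * w⁻¹ * b := fun a b => by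
    simp only [wi, mul_assoc, h.ww, mul_one]
  have e1 : ∀ a a' b b', b ∈ R₂ → a' ∈ R₁ → a * b * (a' * b') = a * a' * (b * b') :=
    fun a a' b b' hb ha' => by
      rw [mul_assoc, ← mul_assoc b, ← (h.comm a' ha' b hb).eq]; simp only [mul_assoc]
  have e2 : ∀ a ∈ R₁, ∀ b ∈ R₂, w * (a * b) = w * b * w⁻¹ * (w * a * w⁻¹) * w := fun a ha b hb => by
    rw [(h.comm a ha b hb).eq]; simp only [wi, mul_assoc, c, h.ww, mul_one]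
  obtain ⟨Q, h2, h3, h4⟩ := exists_sub (p := p) (fun x hx y hy => by
    obtain ⟨a, ha, b, hb, rfl | rfl⟩ := d x hx <;> obtain ⟨a', ha', b', hb', rfl | rfl⟩ := d y hy
    · rw [e1 _ _ _ _ hb ha', k1 _ (mul_mem ha ha') _ (mul_mem hb hb'), k1 a ha b hb, k1 a' ha' b' hb',
        ← conj_mul, hq _ (w1 a ha) _ (w1 a' ha'), hq b hb b' hb']
      tauto
    · rw [← mul_assoc, e1 _ _ _ _ hb ha', k2 _ (mul_mem ha ha') _ (mul_mem hb hb'), k1 a ha b hb,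
        k2 a' ha' b' hb', ← conj_mul, hq _ (w1 a ha) _ (w1 a' ha'), hq b hb b' hb']
      tauto
    · rw [mul_assoc _ w, e2 a' ha' b' hb', ← mul_assoc, e1 _ _ _ _ hb (w2 b' hb'),
        k2 _ (mul_mem ha (w2 b' hb')) _ (mul_mem hb (w1 a' ha')), k2 a ha b hb, k1 a' ha' b' hb', w3,
        hq _ (w1 a ha) _ hb', hq b hb _ (w1 a' ha')]
      tauto
    · rw [mul_assoc _ w, ← mul_assoc w, e2 a' ha' b' hb', mul_assoc _ w w, h.ww, mul_one,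
        e1 _ _ _ _ hb (w2 b' hb'), k1 _ (mul_mem ha (w2 b' hb')) _ (mul_mem hb (w1 a' ha')),
        k2 a ha b hb, k2 a' ha' b' hb', w3, hq _ (w1 a ha) _ hb', hq b hb _ (w1 a' ha')]
      tauto) (h.B_le (h.dp.le₂ hu)) fun e => h1 ((e 1 (one_mem _) u hu (.inl (one_mul u).symm)).1
        (by simpa using hq 1 (one_mem _) 1 (one_mem _)))
  exact ⟨Q, h2, h3, fun a ha b hb => ⟨by rw [h4, k1 a ha b hb, and_iff_right (h.B_le (m a ha b hb))],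
    by rw [h4, k2 a ha b hb, and_iff_right (mul_mem (h.B_le (m a ha b hb)) h.w_mem)]⟩⟩

end L2

open L2

namespace La

variable (h : La S B R₁ R₂ w c₁ e₁ s₁ c₂ e₂ s₂ k R)
include h

theorem syl_cen : IsSyl 2 (B ⊓ 𝐂[R]) 𝐂[R] :=
  have := Fact.mk Nat.prime_two
  (h.sylB.mono (le_inf h.sylB.le h.dp.norm₁) inf_le_left).inf_of_le
    (le_inf (fun _ hx => mem_cent.2 (hx _ h.c_mem)) (centralizer_le_normalizer' R))
    (le_normalizer_centralizer inf_le_right)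

theorem R₂_le : R₂ ≤ 𝐂[R] := fun _ hb a ha => h.dp.comm a ha _ hb

theorem cen_eq : B ⊓ 𝐂[R] = R ⊓ 𝐂[R] ⊔ R₂ := le_antisymm (fun x hx => by
  obtain ⟨a, ha, b, hb, rfl⟩ := h.dp.mem_iff.1 hx.1
  exact mul_mem_sup ⟨ha, (h.dp.mem_cen ha hb).1 hx.2⟩ hb)
  (sup_le (inf_le_inf_right _ h.dp.le₁) (le_inf h.dp.le₂ h.R₂_le))

theorem ctl {x g : G} (hx : x ∈ B ⊓ 𝐂[R]) (hg : g ∈ 𝐳[c₁]) (hx' : g * x * g⁻¹ ∈ B ⊓ 𝐂[R]) :
    ∃ y ∈ 𝐂[R], y * x * y⁻¹ = g * x * g⁻¹ := by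
  obtain ⟨n, hn, e⟩ := h.toSu.ctl (h.cen ▸ hx) hg (h.cen ▸ hx')
  have hB : IsSyl 2 B (𝐳[c₁] ⊓ 𝐍[⁅R₁, R₁⁆]) := h.sylB.mono (le_inf h.sylB.le
    (le_normalizer_commutator h.toSu.dp.norm₁ h.toSu.dp.norm₁)) inf_le_left
  obtain ⟨m, hm, e'⟩ := control hB h.dp.le₁ (fun g hg c => cj_of_mem_normalizer
    (mem_normalizer_of_cj_le (cj_le_iff_forall.2 fun y hy => h.sc y hy g hg (c (conj_mem_cj g hy)))))
    hx.2 hn (e ▸ hx'.2)
  obtain ⟨c, e₀, s, k', ra⟩ := h.rt.exists_ra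
  obtain ⟨b, hb, y, hy, rfl⟩ := ra.norm_decomp hB h.dp.norm₁ hm.1 hm.2
  obtain ⟨r, hr, r', hr', rfl⟩ := h.dp.mem_iff.1 hb
  have h1 := mul_mem (h.R₂_le hr') hy.2
  refine ⟨_, h1, ?_⟩
  rw [← e, ← e', ← conj_eq_of_comm (show Commute _ r from
    (mul_mem (mul_mem h1 hx.2) (inv_mem h1) r hr).symm)]
  group

theorem no_index_two [IsSimpleGroup G] {M : Subgroup G} (hM : M ≤ 𝐂[R]) (h2 : M.relIndex 𝐂[R] = 2)
    (hZ : R ⊓ 𝐂[R] ≤ M) : False := by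
  have := Fact.mk Nat.prime_two
  have m1 : ∀ x ∈ 𝐂[R], ∀ y ∈ 𝐂[R], x * y ∈ M ↔ (x ∈ M ↔ y ∈ M) := fun x hx y hy =>
    mul_mem_iff_of_index_two (H := M.subgroupOf 𝐂[R]) h2 (a := ⟨x, hx⟩) (b := ⟨y, hy⟩)
  have m2 : ∀ x ∈ 𝐂[R], ∀ y ∈ 𝐂[R], x * y * x⁻¹ ∈ M ↔ y ∈ M := fun x hx y hy => by
    rw [m1 _ (mul_mem hx hy) _ (inv_mem hx), m1 x hx y hy, inv_mem_iff]; tauto
  have m3 : R₂ ⊓ 𝐳[e₂] ≤ M := fun t ht => by
    obtain ⟨x, hx, y, hy, rfl⟩ := h.rho t ht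
    exact mul_mem (hZ hx) (commutator_le.2 (fun a ha b hb => (m1 _ (mul_mem (mul_mem ha hb)
      (inv_mem ha)) _ (inv_mem hb)).2 ((m2 a ha b hb).trans inv_mem_iff.symm)) hy)
  have m4 : R₂ ⊓ 𝐂[R₂] ≤ M := fun t ht => m3 ⟨ht.1, mem_cent.2 (ht.2 _ h.ra₂.e_mem)⟩
  have ex : ∃ n, ∃ u ∈ R₂, u ∉ M ∧ u ^ 2 ^ n = 1 := by
    obtain ⟨u, hu, h1⟩ := SetLike.not_le_iff_exists.1 fun c : R₂ ≤ M => h.syl_cen.not_dvd_relIndex
      (h2 ▸ relIndex_dvd_of_le_left _ (h.cen_eq ▸ sup_le hZ c))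
    exact (isPGroup_iff.1 h.ra₂.two u hu).imp fun n e => ⟨u, hu, h1, e⟩
  classical
  obtain ⟨u, hu, u1, u2⟩ := Nat.find_spec ex
  have mn : ∀ m < Nat.find ex, ∀ x ∈ R₂, x ^ 2 ^ m = 1 → x ∈ M := fun m hm x hx e =>
    by_contra fun c => Nat.find_min ex hm ⟨x, hx, c, e⟩
  generalize Nat.find ex = n at u2 mn
  obtain ⟨Q, q1, q2, q3⟩ := exists_Q h.toSu (q := (· ∈ M))
    (fun x hx y hy => m1 x (h.R₂_le hx) y (h.R₂_le hy)) hu u1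
  have dp := h.toSu.dp
  have wi : w⁻¹ = w := inv_eq_of_mul_eq_one_left h.ww
  have w1 : ∀ a ∈ R₁, w * a * w⁻¹ ∈ R₂ := fun a ha => h.wR ▸ conj_mem_cj w ha
  have w2 : ∀ b ∈ R₂, w * b * w⁻¹ ∈ R₁ := fun b hb => h.symm.wR ▸ conj_mem_cj w hb
  have pw : ∀ a ∈ R₁, ∀ b ∈ R₂, ∀ m, (a * b) ^ m = 1 → a ^ m = 1 ∧ b ^ m = 1 := fun a ha b hb m e =>
    dp.uniq (pow_mem ha m) (pow_mem hb m) (one_mem _) (one_mem _) (by rw [← dp.pow ha hb, e, one_mul])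
  have q4 : ∀ m < n, ∀ x ∈ S, x ^ 2 ^ m = 1 → x ∈ Q := fun m hm x hx e => by
    rcases h.mem x hx with c | c <;> obtain ⟨a, ha, b, hb, c⟩ := dp.mem_iff.1 c
    · obtain ⟨e1, e2⟩ := pw a ha b hb _ (c ▸ e)
      exact c ▸ (q3 a ha b hb).1.2 (iff_of_true (mn m hm _ (w1 a ha) (by simp [conj_pow, e1]))
        (mn m hm b hb e2))
    · obtain rfl : x = a * b * w := by rw [← c, mul_assoc, h.ww, mul_one]
      have e1 : (a * (w * b * w⁻¹) * (b * (w * a * w⁻¹))) ^ 2 ^ m = 1 := by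
        rw [mul_assoc a, ← mul_assoc _ b, (h.comm _ (w2 b hb) b hb).eq, mul_assoc b, conj_mul,
          ← (h.comm a ha b hb).eq, wi, ← mul_assoc a, mul_assoc w, ← mul_assoc _ w, ← pow_two,
          pow_right_comm, e, one_pow]
      exact (q3 a ha b hb).2.2 ((m1 _ (h.R₂_le hb) _ (h.R₂_le (w1 a ha))).1 (mn m hm _
        (mul_mem hb (w1 a ha)) (pw _ (mul_mem ha (w2 b hb)) _ (mul_mem hb (w1 a ha)) _ e1).2)).symm
  obtain _ | n := n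
  · exact u1 ((show u = 1 by simpa using u2) ▸ one_mem M)
  obtain ⟨P, hP⟩ := h.syl.exists_sylow_top
  rcases Transfer.thompson_transfer_extremal_gen (P := S) (by
      rw [← hP]; exact Nat.not_even_iff_odd.1 (mt even_iff_two_dvd.1 P.not_dvd_index)) q1 q2 u2
    (fun g j ⟨i, hi⟩ c => q4 n n.lt_succ_self _ c (by
      rw [conj_pow, hi, ← mul_two, ← pow_mul, mul_assoc i, ← pow_succ', pow_mul', u2]; simp))
    (T := B ⊓ 𝐳[u]) (h.two.to_le inf_le_left) (fun t ht => (mem_cent.1 ht.2).eq.symm) with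
    ⟨N, n1, n2, -⟩ | ⟨g, g1, g2⟩
  · rcases n1.eq_bot_or_eq_top with rfl | rfl
    · have := (mul_mem_iff_of_index_two n2).2 (iff_of_false (mt mem_bot.1 h.ra₁.c_ne)
        (mt mem_bot.1 h.ra₂.c_ne))
      exact h.fo.ne (by rw [eq_inv_of_mul_eq_one_left this, inv_eq_of_mul_eq_one_left h.ra₂.cc])
    · simp at n2
  have uC : u ∈ 𝐂[R₁] := fun a ha => h.comm a ha u hu
  have k1 : g * c₁ * g⁻¹ = c₁ ∨ g * c₁ * g⁻¹ = c₂ := by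
    suffices g * c₁ * g⁻¹ = 1 ∨ g * c₁ * g⁻¹ = c₁ ∨ g * c₁ * g⁻¹ = c₂ ∨ g * c₁ * g⁻¹ = c₁ * c₂ from
      ((this.resolve_left (mt conj_eq_one_iff.1 h.ra₁.c_ne)).imp_right
        fun e => e.resolve_right (h.stepA g))
    have cc : g * c₁ * g⁻¹ * (g * c₁ * g⁻¹) = 1 := by rw [conj_mul, h.ra₁.cc]; simp
    by_cases uu : u * u = 1
    · have := h.cj_le hu uu (fun c => u1 (m4 ⟨hu, c⟩)) g2
      exact h.der_inv (commutator_mono this this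
        (commutator_cj g R₁ R₁ ▸ conj_mem_cj g h.ra₁.c_mem_der)) cc
    have s1 : s₂ ∈ M := mn 1 (by
      rcases n with _ | n
      · exact absurd (by simpa [pow_two] using u2) uu
      · omega) _ h.ra₂.s_mem (by rw [pow_one, pow_two, h.ra₂.ss])
    have s2 := h.ra₂.sq.resolve_right fun c => u1 ((c u hu).elim (fun e => m3 ⟨hu, mem_cent.2 e⟩)
      fun e => (mul_mem_cancel_right s1).1 (m3 ⟨mul_mem hu h.ra₂.s_mem, mem_cent.2 e⟩))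
    obtain ⟨i, hi, ii⟩ := h.ra₁.der_i
    have := (cj_mono g (le_inf dp.le₁ fun a ha => mem_cent.2 (h.comm a ha u hu).symm)).trans g2
    obtain ⟨a, ha, b, hb, e⟩ := dp.mem_iff.1 (h.der_le (commutator_mono this this
      (commutator_cj g R₁ R₁ ▸ conj_mem_cj g hi)))
    have e1 : g * c₁ * g⁻¹ = a * a * (b * b) := by
      rw [← ii, ← conj_mul, e, ← pow_two, dp.pow ha hb, pow_two, pow_two]
    obtain ⟨e2, e3⟩ := (dp.sq_iff (mul_mem ha ha) (mul_mem hb hb)).1 (e1 ▸ cc)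
    have e4 := s2 _ (w1 a ha) (by rw [conj_mul, conj_mul, e2]; simp)
    rw [conj_mul, ← h.wR, centralizer_cj, conj_mem_cj_iff] at e4
    rw [e1]
    rcases h.ra₁.cen_inv _ (mul_mem ha ha) e4 e2 with c | c <;>
      rcases h.ra₂.cen_inv _ (mul_mem hb hb) (s2 b hb e3) e3 with d | d <;> simp [c, d]
  wlog k2 : g * c₁ * g⁻¹ = c₁ generalizing g
  · have wQ : w ∈ Q := by simpa using (q3 1 (one_mem _) 1 (one_mem _)).2
    have e : w * g * c₁ * (w * g)⁻¹ = c₁ := by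
      rw [show w * g * c₁ * (w * g)⁻¹ = w * (g * c₁ * g⁻¹) * w⁻¹ by group, k1.resolve_left k2,
        h.symm.wc]
    refine this (w * g) ?_ (cj_mul w g _ ▸ cj_le_of_mem g2 h.w_mem) (.inl e) e
    convert mul_mem (mul_mem wQ g1) (inv_mem wQ) using 1
    group
  have gc := mem_cent.2 (comm_of_conj_eq k2)
  have g3 := (h.E1 ⟨dp.le₂ hu, uC⟩ gc ((le_inf g2
    (cj_le_of_mem (inf_le_left.trans h.sylB.le) gc)).trans h.inf_cent.le)).2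
  obtain ⟨y, hy, e⟩ := h.ctl ⟨dp.le₂ hu, h.R₂_le hu⟩ gc (h.cen ▸ g3)
  refine u1 ((m2 y hy u (h.R₂_le hu)).1 ?_)
  obtain ⟨a, ha, b, hb, e'⟩ := dp.mem_iff.1 g3.1
  rw [e'] at g1 g3 e
  have a1 := (dp.mem_cen ha hb).1 g3.2
  obtain ⟨ζ, hζ, ξ, hξ, rfl⟩ := h.dp.mem_iff.1 (dp.le₁ ha)
  have a2 := (h.dp.mem_cen hζ hξ).1 (h.cen.ge ⟨dp.le₁ ha, a1⟩).2
  refine e ▸ mul_mem (mul_mem (hZ ⟨hζ, a2⟩) (m3 ⟨hξ, ?_⟩)) (((q3 _ ha b hb).1.1 g1).1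
    (m4 ⟨w1 _ ha, by rw [← h.wR, centralizer_cj]; exact conj_mem_cj w a1⟩))
  exact (mul_mem_cancel_left (mem_cent.2 (h.dp.comm ζ hζ _ h.ra₂.e_mem).symm)).1
    (mem_cent.2 (h.comm _ ha _ h.ra₂.e_mem).symm)

theorem exists_Lb [IsSimpleGroup G] : ∃ D, Lb S B R₁ R₂ w c₁ e₁ s₁ c₂ e₂ s₂ k R D := by
  have z1 : R ⊓ 𝐂[R] ≤ 𝐂[𝐂[R]] := fun x hx y hy => (hy x hx.1).symm
  have z2 : ∀ {Y}, Y ≤ 𝐂[R] → R ⊓ 𝐂[R] ≤ 𝐂[Y] := fun e => z1.trans (centralizer_anti e)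
  have k0 := pRes_le 2 𝐂[R]
  have k1 : R ⊓ 𝐂[R] ⊔ 𝐎[2, 𝐂[R]] = 𝐂[R] := le_antisymm (sup_le inf_le_right k0) (by
    by_contra c
    obtain ⟨M, m1, m2, m3⟩ := exists_idx (le_normalizer_sup ((le_centralizer_iff.1 z1).trans
      (centralizer_le_normalizer' _)) (le_normalizer_pRes 2 _)) le_sup_right (sup_le inf_le_right k0) c
    exact h.no_index_two m1 m2 (le_sup_left.trans m3))
  have k2 : R₂ ≤ R ⊓ 𝐂[R] ⊔ B ⊓ 𝐎[2, 𝐂[R]] := by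
    rw [inf_comm B, ← sup_inf_of_le_normalizer (inf_le_left.trans h.dp.le₁)
      ((z2 k0).trans (centralizer_le_normalizer' _)), k1]
    exact le_inf h.R₂_le h.dp.le₂
  have dp : DP B R (B ⊓ 𝐎[2, 𝐂[R]]) := ⟨fun a ha b hb => k0 hb.2 a ha, eq_bot_iff.2 fun x hx => by
    obtain ⟨n, hn⟩ := isPGroup_iff.1 h.two x hx.2.1
    have := mem_der_of_central h.syl_cen ⟨hx.2.1, k0 hx.2.2⟩ (z1 ⟨hx.1, k0 hx.2.2⟩)
      (mem_der_of_pRes hx.2.2 hn)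
    rw [h.cen_eq] at this
    exact h.dp.disj.le ⟨hx.1, commutator_le_self _ (der_sup (z2 h.R₂_le) (z2 inf_le_right) this)⟩,
    le_antisymm (h.dp.B_eq.trans_le (sup_le le_sup_left (k2.trans (sup_le_sup_right inf_le_left _))))
      (sup_le h.dp.le₁ inf_le_left)⟩
  exact ⟨_, h, dp, h.dp.symm.rt dp.symm h.ra₂.ty, commutator_le_self _ (der_sup
    (z2 (inf_le_right.trans k0)) (z2 inf_le_right) (commutator_mono k2 k2 h.ra₂.c_mem_der)), rfl, k1⟩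

end La

end Cfsg.Agent.L5T
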