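import Mathlib
import Cfsg.Agent.L5T.SuL

/-! S0511: `c₂` is not isolated in `C(c₁)`. -/

set_option autoImplicit false
set_option linter.unusedSectionVars false

namespace Cfsg.Agent.L5T

open Subgroup Cfsg.Agent.PLocal.Amb Cfsg.Agent.Lyons

variable {G : Type*} [Group G] [Finite G] {S B R₁ R₂ : Subgroup G} {w c₁ e₁ s₁ c₂ e₂ s₂ : G} {k : ℕ}

theorem Su.mem_E16 (h : Su S B R₁ R₂ w c₁ e₁ s₁ c₂ e₂ s₂ k) {E : Subgroup G} (hE : E ≤ B)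
    (h2 : ∀ a ∈ E, a * a = 1) (h16 : Nat.card E = 16) {c : G} (hc : c ∈ B) (hc' : c ∈ 𝐂[B])
    (cc : c * c = 1) : c ∈ E := by
  have h1 : zpowers c ≤ 𝐂[E] := zpowers_le.2 (centralizer_anti hE hc')
  rw [eq_of_le_of_card_ge (le_sup_left : E ≤ E ⊔ zpowers c) (h16 ▸ h.card_le
    (sup_le hE (zpowers_le.2 hc)) fun x hx => ?_)]
  · exact mem_sup_right (mem_zpowers c)
  obtain ⟨a, ha, _, ⟨n, rfl⟩, rfl⟩ :=
    (mem_sup_of_le_normalizer_left (h1.trans (centralizer_le_normalizer' _))).1 hx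
  rw [mul_assoc, ← mul_assoc (c ^ n), ← h1 ⟨n, rfl⟩ a ha, mul_assoc, ← mul_assoc, h2 a ha, one_mul,
    ← (Commute.refl c).mul_zpow, cc, one_zpow]

theorem Su.nis_a (h : Su S B R₁ R₂ w c₁ e₁ s₁ c₂ e₂ s₂ k) (i₁ : ¬ NIs B c₁ c₂) (i₂ : ¬ NIs B c₂ c₁)
    {g a y : G} (ha : a ∈ R₁) (hy : y ∈ R₂) (a2 : a * a = 1) (y2 : y * y = 1) (a1 : a ∉ 𝐂[R₁])
    (e : g * (a * y) * g⁻¹ = c₁ * c₂) (hg : cj(g, S ⊓ 𝐳[a * y]) ≤ S) : False := by
  obtain ⟨b, hb, b2, b1, yE⟩ : ∃ b ∈ R₂, b * b = 1 ∧ b ∉ 𝐂[R₂] ∧ y ∈ AA c₁ a c₂ b := by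
    by_cases y1 : y ∈ 𝐂[R₂]
    · refine ⟨e₂, h.ra₂.e_mem, h.ra₂.ee, h.ra₂.e_not_cen, ?_⟩
      rcases h.ra₂.cen_inv y hy y1 y2 with rfl | rfl
      exacts [one_mem _, subset_closure (by simp)]
    · exact ⟨y, hy, y2, y1, subset_closure (by simp)⟩
  obtain ⟨EB, E2, E16, Ef⟩ := h.exists_E16 ha hb a2 b2 a1 b1
  set E := AA c₁ a c₂ b
  have cE : c₁ ∈ E := subset_closure (by simp)
  have ayE : a * y ∈ E := mul_mem (subset_closure (by simp)) yE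
  have Ec : ∀ x ∈ E, ∀ x' ∈ E, Commute x x' := fun x hx x' hx' => by
    have := E2 _ (mul_mem hx hx')
    rw [commute_iff_eq, eq_inv_of_mul_eq_one_left this, mul_inv_rev,
      inv_eq_of_mul_eq_one_left (E2 x hx), inv_eq_of_mul_eq_one_left (E2 x' hx')]
  have F2 : ∀ x ∈ cj(g, E), x * x = 1 := by
    rintro _ ⟨x, hx, rfl⟩
    rw [← map_mul, E2 x hx, map_one]
  have FB : cj(g, E) ≤ B := h.L1' ((cj_mono g (le_inf (EB.trans h.B_le) fun x hx =>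
    mem_cent.2 (Ec _ ayE x hx))).trans hg) F2 (by rw [card_cj, E16])
  have u1 := mem_cj.1 (h.mem_E16 FB F2 (by rw [card_cj, E16]) (h.dp.le₁ h.ra₁.c_mem) h.c₁_cen h.ra₁.cc)
  have u2 := mem_cj.1 (h.mem_E16 FB F2 (by rw [card_cj, E16]) (h.dp.le₂ h.ra₂.c_mem) h.c₂_cen h.ra₂.cc)
  obtain ⟨r, hr, r1⟩ := h.ra₁.flip a ha a1 (a2 ▸ one_mem _)
  have r2 : r * c₁ * r⁻¹ = c₁ := mul_inv_eq_of_eq_mul (h.ra₁.c_cen r hr)
  have r3 : ∀ x : G, ∀ x' ∈ R₂, r * (x * x') * r⁻¹ = r * x * r⁻¹ * x' := fun x x' hx' => by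
    rw [← conj_mul, mul_inv_eq_of_eq_mul (h.comm r hr x' hx').eq]
  have r4 : ∀ x ∈ R₂, c₁ * x = x * c₁ := h.comm c₁ h.ra₁.c_mem
  have di : ∀ x ∈ E, r * x * r⁻¹ = x ∨ r * x * r⁻¹ = x * c₁ := fun x hx => by
    obtain ⟨x₁, x₂, p1, p2, rfl⟩ := Ef x hx
    have p3 : x₂ ∈ R₂ := by
      rcases p2 with rfl | rfl | rfl | rfl
      exacts [one_mem _, h.ra₂.c_mem, hb, mul_mem hb h.ra₂.c_mem]
    rw [r3 _ _ p3]
    rcases p1 with p | p | p | p <;> rw [p]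
    · exact Or.inl (by group)
    · exact Or.inl (by rw [r2])
    · exact Or.inr (by rw [r1, mul_assoc, r4 _ p3, mul_assoc])
    · exact Or.inr (by rw [← conj_mul, r1, r2, mul_assoc (a * c₁), r4 _ p3, ← mul_assoc])
  have key : ∀ {c c' : G}, g⁻¹ * c' * g ∈ E → r * (g⁻¹ * c * g) * r⁻¹ = g⁻¹ * c * g →
      r * (g⁻¹ * c' * g) * r⁻¹ = g⁻¹ * c' * g * c₁ → NIs B c c' := fun {c c'} p q q' => by
    have q1 : g * r * g⁻¹ * c' * (g * r * g⁻¹)⁻¹ = g * (g⁻¹ * c' * g * c₁) * g⁻¹ := by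
      rw [← q']; group
    refine ⟨g * r * g⁻¹, mem_cent.2 (comm_of_conj_eq ?_), q1 ▸ FB (conj_mem_cj g (mul_mem p cE)),
      fun e => h.ra₁.c_ne ?_⟩
    · simpa [mul_assoc] using congrArg (g * · * g⁻¹) q
    · simpa [mul_assoc] using congrArg (g⁻¹ * · * g) (q1.symm.trans e)
  have e1 : g⁻¹ * c₁ * g * (g⁻¹ * c₂ * g) = a * y := by
    simpa [mul_assoc] using congrArg (g⁻¹ * · * g) e.symm
  have e2 : r * (g⁻¹ * c₁ * g) * r⁻¹ * (r * (g⁻¹ * c₂ * g) * r⁻¹) = a * y * c₁ := by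
    rw [conj_mul, e1, r3 _ _ hy, r1, mul_assoc, r4 _ hy, mul_assoc]
  rcases di _ u1 with p | p <;> rcases di _ u2 with q | q
  · rw [p, q, e1] at e2
    exact h.ra₁.c_ne (by simpa using e2)
  · exact i₁ (key u2 p q)
  · exact i₂ (key u1 q p)
  · rw [p, q, mul_assoc, ← mul_assoc c₁, (Ec _ cE _ u2).eq, mul_assoc _ c₁ c₁, h.ra₁.cc, mul_one,
      e1] at e2
    exact h.ra₁.c_ne (by simpa using e2)

/-- Suppose not: `(I₁)` `n ∈ C(c₁)`, `n c₂ n⁻¹ ∈ B` imply `n c₂ n⁻¹ = c₂`; conjugating by `w` also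
`(I₂)` with the indices interchanged. We show that `z = c₁ c₂` is isolated; then `Lyons.zstar` and
`oc ⊤ = ⊥` (simple, even order) make `z` central, absurd. Let `y ∈ S` be conjugate to `z`, `y ≠ z`;
`extremal` (`z_cen`) gives `g y g⁻¹ = z`, `cj(g, S ⊓ C(y)) ≤ S`.
(a) `y = y₁ y₂ ∈ B`. By `stepA`, `y ∉ {c₁, c₂}`, so `y₁` or `y₂` is a noncentral involution. Put
`a = y₁` if `y₁` is noncentral, else `a = e₁`; `b` likewise; `E = AA c₁ a c₂ b ∋ y` (`exists_E16`).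
`cj(g, E) ≤ B` (`L1'`) contains `c₁`, `c₂` (else adjoin: `card_le`). So `u = g⁻¹ c₁ g` and
`u' = g⁻¹ c₂ g` lie in `E` and `u u' = y`. Say `y₁ = a` is noncentral, `r a r⁻¹ = a c₁`, `r ∈ R₁`
(`flip`). `u₁ u'₁ = a` (`DP.uniq`), so exactly one of `u₁`, `u'₁` lies in `{1, c₁}`: `r` fixes one
of `u`, `u'` and multiplies the other by `c₁`. Then `n = g r g⁻¹` fixes one of `c₁`, `c₂` and moves
the other inside `cj(g, E) ≤ B`, against `(I₁)` or `(I₂)`.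
(b) `y ∉ B`. For `a ∈ R₁`, `a (y a y⁻¹) ∈ S ⊓ C(y)` (`y² = 1`), so `z = c₁ (y c₁ y⁻¹)` lies in the
commutator subgroup of `S ⊓ C(y)` (`c_mem_der`; `a ↦ a (y a y⁻¹)` is a homomorphism), and
`y' = g z g⁻¹ ∈ S' ≤ B`, `y' ≠ z` as `y ≠ z`. Apply (a) to `y'`. -/
theorem Su.nis [IsSimpleGroup G] (h : Su S B R₁ R₂ w c₁ e₁ s₁ c₂ e₂ s₂ k) : NIs B c₁ c₂ := by
  by_contra i₁
  have i₂ : ¬ NIs B c₂ c₁ := fun ⟨n, n1, n2, n3⟩ => by
    have e : w * n * w⁻¹ * c₂ * (w * n * w⁻¹)⁻¹ = w * (n * c₁ * n⁻¹) * w⁻¹ := by rw [← h.wc]; group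
    refine i₁ ⟨w * n * w⁻¹, ?_, e ▸ conj_mem_of_mem_normalizer (h.norm h.w_mem) n2, fun e' => n3 ?_⟩
    · rw [← h.symm.wc, centralizer_singleton_conj]
      exact conj_mem_cj w n1
    · simpa using e.symm.trans (e'.trans h.wc.symm)
  have dp := h.dp
  have zB : c₁ * c₂ ∈ B := mul_mem (dp.le₁ h.ra₁.c_mem) (dp.le₂ h.ra₂.c_mem)
  have cc := h.comm _ h.ra₁.c_mem _ h.ra₂.c_mem
  have z2 := (dp.sq_iff h.ra₁.c_mem h.ra₂.c_mem).2 ⟨h.ra₁.cc, h.ra₂.cc⟩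
  have z1 : c₁ * c₂ ≠ 1 := fun e =>
    h.ra₁.c_ne (dp.uniq h.ra₁.c_mem h.ra₂.c_mem (one_mem _) (one_mem _) (by rw [e, mul_one])).1
  have ex : ∀ {y g : G}, g * y * g⁻¹ = c₁ * c₂ → y * y = 1 ∧
      ∃ g, g * y * g⁻¹ = c₁ * c₂ ∧ cj(g, S ⊓ 𝐳[y]) ≤ S := fun {y g} e => by
    have : S ≤ 𝐳[c₁ * c₂] := fun x hx => mem_cent.2 (h.z_cen x hx).symm
    obtain ⟨g', -, p⟩ := Lyons.extremal (P := S) (L := ⊤) (T := S ⊓ 𝐳[y])
      (by rw [inf_eq_left.2 this]; exact h.syl.mono (le_inf le_top this) le_top) (mem_top g) e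
      (h.syl.pgrp.to_le inf_le_left) le_top inf_le_right
    exact ⟨by rwa [← e, conj_mul, conj_eq_one_iff] at z2, g', p⟩
  have ca : ∀ {y g : G}, y ∈ B → g * y * g⁻¹ = c₁ * c₂ → y = c₁ * c₂ := fun {y g} hy e => by
    obtain ⟨y2, g, e, hg⟩ := ex e
    obtain ⟨a, ha, b, hb, rfl⟩ := dp.mem_iff.1 hy
    obtain ⟨a2, b2⟩ := (dp.sq_iff ha hb).1 y2
    by_cases a1 : a ∈ 𝐂[R₁]
    · by_cases b1 : b ∈ 𝐂[R₂]
      · rcases h.ra₁.cen_inv a ha a1 a2 with p | p <;> rcases h.ra₂.cen_inv b hb b1 b2 with q | q <;>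
          rw [p, q] at e ⊢
        · exact absurd (by simpa using e.symm) z1
        · exact absurd (by simpa [cc.eq] using e) (h.symm.stepA g)
        · exact absurd (by simpa using e) (h.stepA g)
      · rw [(h.comm a ha b hb).eq] at e hg
        exact (h.symm.nis_a i₂ i₁ hb ha b2 a2 b1 (e.trans cc.eq) hg).elim
    · exact (h.nis_a i₁ i₂ ha hb a2 b2 a1 e hg).elim
  have iso : ∀ g ∈ (⊤ : Subgroup G), g * (c₁ * c₂) * g⁻¹ ∈ S → g * (c₁ * c₂) * g⁻¹ = c₁ * c₂ := by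
    intro g _ hy
    have e : g⁻¹ * (g * (c₁ * c₂) * g⁻¹) * g⁻¹⁻¹ = c₁ * c₂ := by group
    generalize g * (c₁ * c₂) * g⁻¹ = y at hy e
    refine ca (by_contra fun yB => ?_) e
    obtain ⟨y2, g, e, hg⟩ := ex e
    obtain ⟨o1, -, o2, -⟩ := h.out hy yB
    have o3 : ∀ a ∈ R₁, y * a * y⁻¹ ∈ R₂ := fun a ha => o1 ▸ conj_mem_cj y ha
    let φ : R₁ →* G := MonoidHom.mk' (fun a => a * (y * a * y⁻¹)) fun a b => by
      rw [coe_mul, ← conj_mul, (h.comm b b.2 _ (o3 a a.2)).mul_mul_mul_comm]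
    have p1 : φ.range ≤ S ⊓ 𝐳[y] := by
      rintro _ ⟨a, rfl⟩
      refine ⟨h.B_le (mul_mem (dp.le₁ a.2) (dp.le₂ (o3 a a.2))), mem_cent.2 (comm_of_conj_eq ?_).symm⟩
      change y * (a * (y * a * y⁻¹)) * y⁻¹ = a * (y * a * y⁻¹)
      rw [← conj_mul, (h.comm a a.2 _ (o3 a a.2)).eq,
        show y * (y * a * y⁻¹) * y⁻¹ = y * y * a * (y * y)⁻¹ by group, y2]
      group
    have p2 : c₁ * c₂ ∈ ⁅S ⊓ 𝐳[y], S ⊓ 𝐳[y]⁆ := by
      have := h.ra₁.c_mem_der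
      rw [← map_subtype_commutator] at this
      obtain ⟨a, ha, rfl⟩ := this
      have := mem_map_of_mem φ ha
      rw [_root_.commutator_def, map_commutator, ← MonoidHom.range_eq_map] at this
      exact o2 ▸ commutator_mono p1 p1 this
    have p3 := conj_mem_cj g p2
    rw [← commutator_cj] at p3
    have p4 := ca (g := g⁻¹) (h.der_le (commutator_mono hg hg p3)) (by group)
    exact yB (by rwa [show y = c₁ * c₂ by simpa using e.trans p4.symm])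
  have o1 : oc (⊤ : Subgroup G) = ⊥ := by
    refine (normalizer_eq_top_iff.1 (eq_top_iff.2 (le_norm_oc ⊤))).eq_bot_or_eq_top.resolve_right
      fun e => h.ra₁.c_ne (eq_one_of_odd h.ra₁.two h.ra₁.c_mem (odd_orderOf (odd_oc ⊤) ?_))
    exact e.ge (mem_top _)
  have o2 : c₁ * c₂ ∈ center G := mem_center_iff.2 fun g => by
    obtain ⟨o, ho, c, hc, rfl⟩ := zstar h.syl (h.B_le zB) iso (mem_top g)
    rw [mem_bot.1 (o1.le ho), one_mul]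
    exact (mem_cent.1 hc.2).symm
  rcases (inferInstance : (center G).Normal).eq_bot_or_eq_top with e | e
  · exact z1 (mem_bot.1 (e.le o2))
  · exact h.ra₁.not_comm (mem_center_iff.1 (e.ge (mem_top s₁)) e₁)

end Cfsg.Agent.L5T
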